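import Cfsg.Agent.Lib.Fi23Max.Defs

/-! A route that uses no other symmetry, and four transpositions with three common fixed points outside the 324 points (generated). -/

set_option autoImplicit false
set_option maxRecDepth 40000

namespace Cfsg.Agent.Lib.Fi23Max.Data

/-- A route from the point `0`. -/
def route0 : Nat × List Move × List Nat := (0, [
    .given 442 8,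
    .given 1565 19,
    .given 3854 42,
    .given 1735 23,
    .given 990 13,
    .root 0,
    .conj 3313 [6, 5, 4, 3, 8, 7, 6, 5, 4, 3] 2 0 1,
    .conj 4101 [6, 5, 4, 3, 8, 7, 6, 5, 4, 3] 2 0 2,
    .conj 1598 [6, 5, 4, 3, 8, 7, 6, 5, 4, 3] 2 0 4,
    .conj 36 [6, 5, 4, 3, 8, 7, 6, 5, 4, 3] 2 0 5,
    .conj 1567 [9, 2, 3, 8, 6, 5, 4, 3, 2, 1] 0 1 2,
    .conj 18630 [9, 2, 3, 8, 6, 5, 4, 3, 2, 1] 0 1 3,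
    .conj 4981 [9, 2, 3, 8, 6, 5, 4, 3, 2, 1] 0 1 4,
    .conj 1154 [9, 2, 3, 8, 6, 5, 4, 3, 2, 1] 0 1 7,
    .conj 189 [9, 2, 3, 8, 6, 5, 4, 3, 2, 1] 0 1 8,
    .conj 608 [9, 2, 3, 8, 6, 5, 4, 3, 2, 1] 0 1 9,
    .conj 2493 [8, 9, 5, 4, 3, 8, 6, 5, 4, 3, 2, 1] 0 4 2,
    .conj 1119 [8, 9, 5, 4, 3, 8, 6, 5, 4, 3, 2, 1] 0 4 3,
    .conj 1169 [8, 9, 5, 4, 3, 8, 6, 5, 4, 3, 2, 1] 0 4 9,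
    .conj 25274 [8, 9, 5, 4, 3, 8, 6, 5, 4, 3, 2, 1] 0 4 11,
    .conj 1848 [8, 9, 5, 4, 3, 8, 6, 5, 4, 3, 2, 1] 0 4 15,
    .conj 379 [4, 3, 8, 9, 2, 3, 8, 6, 5, 4, 3, 2, 1] 0 2 3,
    .conj 1661 [4, 3, 8, 9, 2, 3, 8, 6, 5, 4, 3, 2, 1] 0 2 9,
    .conj 13633 [4, 3, 8, 9, 2, 3, 8, 6, 5, 4, 3, 2, 1] 0 2 11,
    .conj 52 [4, 3, 8, 9, 2, 3, 8, 6, 5, 4, 3, 2, 1] 0 2 12,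
    .conj 3255 [4, 3, 8, 9, 2, 3, 8, 6, 5, 4, 3, 2, 1] 0 2 13,
    .conj 708 [4, 3, 8, 9, 2, 3, 8, 6, 5, 4, 3, 2, 1] 0 2 15,
    .conj 1132 [4, 3, 8, 9, 2, 3, 8, 6, 5, 4, 3, 2, 1] 0 2 18,
    .conj 868 [4, 3, 8, 9, 2, 3, 8, 6, 5, 4, 3, 2, 1] 0 2 20,
    .conj 26835 [4, 3, 8, 9, 4, 2, 3, 8, 7, 6, 5, 4, 3, 2] 1 3 8,
    .conj 2369 [4, 3, 8, 9, 4, 2, 3, 8, 7, 6, 5, 4, 3, 2] 1 3 9,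
    .conj 16320 [4, 3, 8, 9, 4, 2, 3, 8, 7, 6, 5, 4, 3, 2] 1 3 22,
    .conj 8421 [4, 3, 8, 9, 4, 2, 3, 8, 7, 6, 5, 4, 3, 2] 1 3 23,
    .conj 4448 [4, 3, 8, 9, 4, 2, 3, 8, 7, 6, 5, 4, 3, 2] 1 3 25,
    .conj 15972 [4, 3, 8, 9, 4, 2, 3, 8, 7, 6, 5, 4, 3, 2] 1 3 28,
    .conj 1134 [7, 6, 5, 4, 3, 8, 2, 3, 4, 1, 2, 3, 8, 5, 6, 4, 5, 3, 4, 2, 3, 8, 7, 6, 5, 4, 3, 2] 1 5 14,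
    .conj 2635 [7, 6, 5, 4, 3, 8, 2, 3, 4, 1, 2, 3, 8, 5, 6, 4, 5, 3, 4, 2, 3, 8, 7, 6, 5, 4, 3, 2] 1 5 17,
    .conj 1992 [7, 6, 5, 4, 3, 8, 2, 3, 4, 1, 2, 3, 8, 5, 6, 4, 5, 3, 4, 2, 3, 8, 7, 6, 5, 4, 3, 2] 1 5 21,
    .conj 25994 [7, 6, 5, 4, 3, 8, 2, 3, 4, 1, 2, 3, 8, 5, 6, 4, 5, 3, 4, 2, 3, 8, 7, 6, 5, 4, 3, 2] 1 5 29,
    .conj 18672 [7, 6, 5, 4, 3, 8, 2, 3, 4, 1, 2, 3, 8, 5, 6, 4, 5, 3, 4, 2, 3, 8, 7, 6, 5, 4, 3, 2] 1 5 31,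
    .conj 8143 [7, 6, 5, 4, 3, 8, 2, 3, 4, 1, 2, 3, 8, 5, 6, 4, 5, 3, 4, 2, 3, 8, 7, 6, 5, 4, 3, 2] 1 5 33,
    .conj 13018 [7, 6, 5, 4, 3, 8, 2, 3, 4, 1, 2, 3, 8, 5, 6, 4, 5, 3, 4, 2, 3, 8, 7, 6, 5, 4, 3, 2] 1 5 34,
    .conj 23237 [6, 5, 4, 3, 8, 7, 6, 5, 4, 3] 2 0 19,
    .conj 6516 [6, 5, 4, 3, 8, 7, 6, 5, 4, 3] 2 0 32,
    .conj 4572 [6, 5, 4, 3, 8, 7, 6, 5, 4, 3] 2 0 36,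
    .conj 11683 [6, 5, 4, 3, 8, 7, 6, 5, 4, 3] 2 0 38,
    .conj 24207 [6, 5, 4, 3, 8, 7, 6, 5, 4, 3] 2 0 39,
    .conj 29977 [6, 5, 4, 3, 8, 7, 6, 5, 4, 3] 2 0 40,
    .conj 24816 [6, 5, 4, 3, 8, 7, 6, 5, 4, 3] 2 0 41,
    .conj 8006 [9, 2, 3, 8, 6, 5, 4, 3, 2, 1] 0 1 27,
    .conj 17599 [9, 2, 3, 8, 6, 5, 4, 3, 2, 1] 0 1 42,
    .conj 21088 [9, 2, 3, 8, 6, 5, 4, 3, 2, 1] 0 1 44,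
    .conj 16876 [9, 2, 3, 8, 6, 5, 4, 3, 2, 1] 0 1 45,
    .conj 23807 [9, 2, 3, 8, 6, 5, 4, 3, 2, 1] 0 1 48,
    .conj 15405 [9, 2, 3, 8, 7, 6, 5, 4, 3, 2, 1] 0 27 33,
    .conj 625 [9, 2, 3, 8, 7, 6, 5, 4, 3, 2, 1] 0 27 43,
    .conj 25465 [9, 2, 3, 8, 7, 6, 5, 4, 3, 2, 1] 0 27 46,
    .conj 23713 [9, 2, 3, 8, 7, 6, 5, 4, 3, 2, 1] 0 27 47,
    .conj 29362 [9, 2, 3, 8, 7, 6, 5, 4, 3, 2, 1] 0 27 48,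
    .conj 28351 [9, 2, 3, 8, 7, 6, 5, 4, 3, 2, 1] 0 27 53,
    .conj 12969 [8, 9, 5, 4, 3, 8, 6, 5, 4, 3, 2, 1] 0 4 50,
    .conj 25927 [8, 9, 5, 4, 3, 8, 6, 5, 4, 3, 2, 1] 0 4 54,
    .conj 5153 [8, 9, 5, 4, 3, 8, 6, 5, 4, 3, 2, 1] 0 4 55,
    .conj 1910 [4, 3, 8, 9, 2, 3, 8, 6, 5, 4, 3, 2, 1] 0 2 52,
    .conj 27925 [4, 3, 8, 9, 2, 3, 8, 6, 5, 4, 3, 2, 1] 0 2 60,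
    .conj 26023 [4, 3, 8, 9, 2, 3, 8, 6, 5, 4, 3, 2, 1] 0 2 61,
    .conj 20596 [4, 3, 8, 9, 2, 3, 8, 6, 5, 4, 3, 2, 1] 0 2 62,
    .conj 17899 [8, 9, 5, 4, 3, 8, 7, 6, 5, 4, 3, 2, 1] 0 26 51,
    .conj 15393 [8, 9, 5, 4, 3, 8, 7, 6, 5, 4, 3, 2, 1] 0 26 64,
    .conj 16998 [8, 9, 5, 4, 3, 8, 7, 6, 5, 4, 3, 2, 1] 0 26 66,
    .conj 10005 [4, 3, 8, 9, 4, 2, 3, 8, 7, 6, 5, 4, 3, 2] 1 3 56,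
    .conj 6002 [4, 3, 8, 9, 4, 2, 3, 8, 7, 6, 5, 4, 3, 2] 1 3 57,
    .conj 17261 [4, 3, 8, 9, 4, 2, 3, 8, 7, 6, 5, 4, 3, 2] 1 3 58,
    .conj 4741 [4, 3, 8, 9, 4, 2, 3, 8, 7, 6, 5, 4, 3, 2] 1 3 59,
    .conj 26844 [4, 3, 8, 9, 4, 2, 3, 8, 7, 6, 5, 4, 3, 2] 1 3 63,
    .conj 20816 [4, 3, 8, 9, 4, 2, 3, 8, 7, 6, 5, 4, 3, 2] 1 3 65,
    .conj 5458 [4, 3, 8, 9, 4, 2, 3, 8, 7, 6, 5, 4, 3, 2] 1 3 67,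
    .conj 1129 [4, 3, 8, 9, 4, 2, 3, 8, 7, 6, 5, 4, 3, 2] 1 3 68,
    .conj 24209 [4, 3, 8, 9, 4, 2, 3, 8, 7, 6, 5, 4, 3, 2] 1 3 69,
    .conj 49 [3, 8, 9, 3, 4, 2, 3, 8, 6, 5, 4, 3, 2, 1] 0 10 71,
    .conj 3808 [3, 8, 9, 3, 4, 2, 3, 8, 6, 5, 4, 3, 2, 1] 0 10 72,
    .conj 7552 [3, 8, 9, 3, 4, 2, 3, 8, 6, 5, 4, 3, 2, 1] 0 10 74,
    .conj 3972 [3, 8, 9, 3, 4, 2, 3, 8, 6, 5, 4, 3, 2, 1] 0 10 75,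
    .conj 8007 [3, 8, 9, 3, 4, 2, 3, 8, 6, 5, 4, 3, 2, 1] 0 10 77,
    .conj 19136 [3, 8, 9, 3, 4, 2, 3, 8, 7, 6, 5, 4, 3, 2, 1] 0 35 70,
    .conj 12583 [3, 8, 9, 3, 4, 2, 3, 8, 7, 6, 5, 4, 3, 2, 1] 0 35 76,
    .conj 1737 [3, 8, 9, 3, 4, 2, 3, 8, 7, 6, 5, 4, 3, 2, 1] 0 35 82,
    .conj 2031 [1, 2, 3, 8, 4, 5, 3, 4, 2, 3, 8, 6, 5, 4, 3, 2] 1 24 73,
    .conj 19602 [1, 2, 3, 8, 4, 5, 3, 4, 2, 3, 8, 7, 6, 5, 4, 3, 2] 1 9 78,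
    .conj 8004 [1, 2, 3, 8, 4, 5, 3, 4, 2, 3, 8, 7, 6, 5, 4, 3, 2] 1 9 79,
    .conj 1456 [1, 2, 3, 8, 4, 5, 3, 4, 2, 3, 8, 7, 6, 5, 4, 3, 2] 1 9 87,
    .conj 1458 [5, 4, 2, 3, 8, 9, 5, 4, 2, 3, 8, 6, 5, 4, 3, 2, 1] 0 16 81,
    .conj 14811 [5, 4, 2, 3, 8, 9, 3, 4, 2, 3, 8, 7, 6, 5, 4, 3, 2] 1 30 80,
    .conj 6990 [5, 4, 2, 3, 8, 9, 3, 4, 2, 3, 8, 7, 6, 5, 4, 3, 2] 1 30 84,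
    .conj 23220 [5, 4, 2, 3, 8, 9, 3, 4, 2, 3, 8, 7, 6, 5, 4, 3, 2] 1 30 85,
    .conj 8003 [5, 4, 2, 3, 8, 9, 3, 4, 2, 3, 8, 7, 6, 5, 4, 3, 2] 1 30 86,
    .conj 8001 [4, 3, 8, 9, 5, 4, 1, 2, 3, 8, 7, 6, 5, 4, 3, 2, 1] 0 37 90,
    .conj 7999 [4, 3, 8, 9, 5, 4, 1, 2, 3, 8, 7, 6, 5, 4, 3, 2, 1] 0 37 91,
    .conj 3857 [4, 3, 8, 9, 5, 4, 1, 2, 3, 8, 7, 6, 5, 4, 3, 2, 1] 0 37 92,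
    .conj 128 [4, 3, 8, 9, 5, 4, 1, 2, 3, 8, 7, 6, 5, 4, 3, 2, 1] 0 37 93,
    .conj 4082 [4, 3, 8, 9, 5, 4, 1, 2, 3, 8, 7, 6, 5, 4, 3, 2, 1] 0 37 94,
    .conj 4146 [6, 5, 4, 2, 3, 8, 9, 4, 2, 3, 8, 7, 6, 5, 4, 3, 2, 1] 0 6 88,
    .conj 3858 [6, 5, 4, 2, 3, 8, 9, 4, 2, 3, 8, 7, 6, 5, 4, 3, 2, 1] 0 6 99,
    .conj 8002 [5, 3, 4, 2, 3, 8, 9, 3, 4, 2, 3, 8, 6, 5, 4, 3, 2, 1] 0 12 98,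
    .conj 8005 [5, 3, 4, 2, 3, 8, 9, 3, 4, 2, 3, 8, 6, 5, 4, 3, 2, 1] 0 12 100,
    .conj 11589 [5, 3, 4, 2, 3, 8, 9, 3, 4, 2, 3, 8, 6, 5, 4, 3, 2, 1] 0 12 101,
    .conj 8000 [5, 3, 4, 2, 3, 8, 9, 3, 4, 2, 3, 8, 6, 5, 4, 3, 2, 1] 0 12 102],
   [105, 89, 95, 106, 96, 103, 104, 49, 97, 83])

/-- Four transpositions: point index, path, letter. -/
def fixData : List (Nat × List Nat × Nat) := [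
  (19, [9, 2, 3, 8, 6, 5, 4, 3, 2, 1], 0),
  (13, [8, 9, 5, 4, 3, 8, 6, 5, 4, 3, 2, 1], 0),
  (42, [4, 3, 8, 9, 2, 3, 8, 6, 5, 4, 3, 2, 1], 0),
  (67, [6, 5, 4, 3, 8, 9, 2, 3, 8, 6, 5, 4, 3, 2], 1)]

/-- The common fixed points, with words in the five transpositions from the point `0`. -/
def fixPts : List (Nat × List Nat) := [(0, []), (1225, [3, 2, 4, 0, 3, 4, 2, 0, 3, 0]), (2943, [0, 3, 0, 2, 4, 3, 0, 4, 2, 3])]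

end Cfsg.Agent.Lib.Fi23Max.Data
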