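import Cfsg.Agent.Lib.Fi23Max.Points
import Cfsg.Agent.Lib.Fi23Max.Routes
import Cfsg.Agent.Lib.Fi23Max.Route0
import Cfsg.Agent.Lib.Fi23Max.Cover

/-!
The checks of the cover and of the routes.
-/

set_option autoImplicit false
set_option maxRecDepth 20000

namespace Cfsg.Agent.Lib.Fi23Max

open Cfsg.Agent.Lib.CosetEnum (allBelow allBelow_iff allFrom allBelow_add get32 force force_eq)

/-- The parent, or index, of a point. -/
noncomputable def parOf (r : ℕ) : ℕ := Nat.mod (get32 Data.cover r) 32768

/-- The generator of a point. -/
noncomputable def genOf (r : ℕ) : ℕ := Nat.mod (Nat.shiftRight (get32 Data.cover r) 15) 8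

/-- The depth of a point; `63` marks the 324 points. -/
noncomputable def depOf (r : ℕ) : ℕ := Nat.shiftRight (get32 Data.cover r) 18

/-- The check at one point. -/
noncomputable def coverAt (r : ℕ) : Bool :=
  bif Nat.beq (depOf r) 63 then Nat.blt (parOf r) 324 && Nat.beq (ptN (parOf r)) r
  else bif Nat.beq (depOf r) 0 then
    Nat.blt (parOf r) 5 && Nat.beq (Data.routes.getD (parOf r) (0, [], [])).1 r
  else Nat.blt (depOf r) 63 && Nat.blt (genOf r) 5 && Nat.blt (parOf r) 31671 &&
    Nat.blt (depOf (parOf r)) (depOf r) && Nat.beq (ev (eWord (genOf r)) (parOf r)) r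

theorem cover0 : allFrom 0 4000 coverAt = true := by decide +kernel
theorem cover1 : allFrom 4000 4000 coverAt = true := by decide +kernel
theorem cover2 : allFrom 8000 4000 coverAt = true := by decide +kernel
theorem cover3 : allFrom 12000 4000 coverAt = true := by decide +kernel
theorem cover4 : allFrom 16000 4000 coverAt = true := by decide +kernel
theorem cover5 : allFrom 20000 4000 coverAt = true := by decide +kernel
theorem cover6 : allFrom 24000 4000 coverAt = true := by decide +kernel
theorem cover7 : allFrom 28000 3671 coverAt = true := by decide +kernel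

theorem cover_all : allBelow 31671 coverAt = true :=
  allBelow_add (allBelow_add (allBelow_add (allBelow_add (allBelow_add (allBelow_add (allBelow_add
    (allBelow_add (rfl : allBelow 0 coverAt = true) cover0 (rfl : 0 + 4000 = 4000))
    cover1 (rfl : 4000 + 4000 = 8000)) cover2 (rfl : 8000 + 4000 = 12000))
    cover3 (rfl : 12000 + 4000 = 16000)) cover4 (rfl : 16000 + 4000 = 20000))
    cover5 (rfl : 20000 + 4000 = 24000)) cover6 (rfl : 24000 + 4000 = 28000))
    cover7 (rfl : 28000 + 3671 = 31671)

/-- The point at a position of a route. -/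
def ptAt (R : List Move) (n : ℕ) : ℕ := (R.getD n (.root 0)).point

/-- The check of one step. -/
noncomputable def moveOK (q : ℕ) (R : List Move) (n : ℕ) : Bool :=
  match R.getD n (.root 0) with
  | .given p i => Nat.blt i 324 && Nat.beq (ptN i) p
  | .root p => Nat.beq p q
  | .gen p k j => Nat.blt k 2 && Nat.blt j n && Nat.beq (ev (Data.hWords.getD k []) (ptAt R j)) p
  | .conj p path k ja jb => Nat.blt ja n && Nat.blt jb n && trOK (ptAt R ja) path k &&
      Nat.beq (ev (trWord path k) (ptAt R jb)) p

/-- The check of a route. -/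
noncomputable def routeOK (e : ℕ × List Move × List ℕ) : Bool :=
  allBelow e.2.1.length (fun n => Nat.blt (ptAt e.2.1 n) 31671 && moveOK e.1 e.2.1 n) &&
    allBelow 10 fun k => Nat.blt (e.2.2.getD k 0) e.2.1.length &&
      Nat.beq (ptAt e.2.1 (e.2.2.getD k 0)) (stdPts.getD k 0)

theorem routes_ok : (allBelow 5 fun i => routeOK (Data.routes.getD i (0, [], []))) = true := by
  decide +kernel

/-- A step that uses none of the two generators. -/
def noGen : Move → Bool
  | .gen _ _ _ => false
  | _ => true

theorem route0_ok : (routeOK Data.route0 && Data.route0.2.1.all noGen) = true := by decide +kernel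

/-- The check that a point outside the 324 points and fixed by the four transpositions is one of three. -/
noncomputable def fixAt (r : ℕ) : Bool :=
  Nat.beq (depOf r) 63 || !(Data.fixData.all fun e => Nat.beq (ev (trWord e.2.1 e.2.2) r) r) ||
    Data.fixPts.any fun e => Nat.beq e.1 r

theorem fix0 : allFrom 0 4000 fixAt = true := by decide +kernel
theorem fix1 : allFrom 4000 4000 fixAt = true := by decide +kernel
theorem fix2 : allFrom 8000 4000 fixAt = true := by decide +kernel
theorem fix3 : allFrom 12000 4000 fixAt = true := by decide +kernel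
theorem fix4 : allFrom 16000 4000 fixAt = true := by decide +kernel
theorem fix5 : allFrom 20000 4000 fixAt = true := by decide +kernel
theorem fix6 : allFrom 24000 4000 fixAt = true := by decide +kernel
theorem fix7 : allFrom 28000 3671 fixAt = true := by decide +kernel

theorem fix_all : allBelow 31671 fixAt = true :=
  allBelow_add (allBelow_add (allBelow_add (allBelow_add (allBelow_add (allBelow_add (allBelow_add
    (allBelow_add (rfl : allBelow 0 fixAt = true) fix0 (rfl : 0 + 4000 = 4000))
    fix1 (rfl : 4000 + 4000 = 8000)) fix2 (rfl : 8000 + 4000 = 12000))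
    fix3 (rfl : 12000 + 4000 = 16000)) fix4 (rfl : 16000 + 4000 = 20000))
    fix5 (rfl : 20000 + 4000 = 24000)) fix6 (rfl : 24000 + 4000 = 28000))
    fix7 (rfl : 28000 + 3671 = 31671)

theorem fixData_ok : (Data.fixData.all fun e => Nat.blt e.1 324 && trOK (ptN e.1) e.2.1 e.2.2) = true := by
  decide +kernel

/-- The check of the three points. -/
noncomputable def fixPtOK (e : ℕ × List ℕ) : Bool :=
  Nat.blt e.1 31671 && !(Nat.beq (depOf e.1) 63) && (e.2.all fun k => Nat.blt k 5) &&
    Nat.beq (ev (e.2.flatMap eWord) 0) e.1 &&
    Data.fixData.all fun d => Nat.beq (ev (trWord d.2.1 d.2.2) e.1) e.1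

theorem fixPts_ok : (Nat.beq Data.fixPts.length 3 && Data.fixPts.all fixPtOK) = true := by decide +kernel

end Cfsg.Agent.Lib.Fi23Max
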