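/-!
Steps of a route through the points of Fi23: each makes a new point from earlier ones.
-/

set_option autoImplicit false

namespace Cfsg.Agent.Lib.Fi23Max

/-- A step: one of the 324 points; the extra point; the image of an earlier point under one of the two
generators; the image of an earlier point under the transposition of an earlier point, which is given by a
path to a standard point. -/
inductive Move where
  | given (p i : Nat)
  | root (p : Nat)
  | gen (p k j : Nat)
  | conj (p : Nat) (path : List Nat) (k ja jb : Nat)

/-- The point made by a step. -/
def Move.point : Move → Nat
  | .given p _ => p
  | .root p => p
  | .gen p _ _ => p
  | .conj p _ _ _ _ => p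

end Cfsg.Agent.Lib.Fi23Max
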