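import Cfsg.Agent.Lib.Fi23Max.Maximal

/-!
An element fixing the 324 points has no prime order other than three.
-/

set_option autoImplicit false
set_option maxRecDepth 20000

namespace Cfsg.Agent.Lib.Fi23Max

open Cfsg.Agent.Lib.CosetEnum (allBelow allBelow_iff)

theorem ptN_dep : (allBelow 324 fun c => Nat.beq (depOf (ptN c)) 63) = true := by decide +kernel

theorem not_Fs_of_dep {r : Pt} (h : r ∈ Fs) : depOf r.1 = 63 := by
  obtain ⟨c, rfl⟩ := h
  exact Nat.eq_of_beq_eq_true (allBelow_iff.1 ptN_dep c.1 c.2)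

namespace Model

variable (M : Model)

theorem rho_eq_of_comm {g t : G} (h : g * t = t * g) (p : Pt) :
    M.rho g (M.rho t p) = M.rho t (M.rho g p) := by
  rw [← Equiv.Perm.mul_apply, ← map_mul, h, map_mul, Equiv.Perm.mul_apply]

theorem comm_tau {g : G} (hg : ∀ c, M.rho g (pt c) = pt c) (c : Ix) :
    g * M.tau (pt c) = M.tau (pt c) * g := by
  have e := M.tau_rho g (pt c)
  rw [hg] at e
  exact (eq_mul_inv_iff_mul_eq.1 e).symm

theorem comm_eProd {g : G} (hg : ∀ c, M.rho g (pt c) = pt c) :
    ∀ l : List ℕ, (∀ k ∈ l, k < 5) →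
      g * prodW (l.flatMap eWord) = prodW (l.flatMap eWord) * g ∧
        lettersOK (l.flatMap eWord) = true := by
  intro l
  induction l with
  | nil => intro _; exact ⟨by simp [prodW], rfl⟩
  | cons k l ih =>
    intro hl
    obtain ⟨h1, h2⟩ := ih fun x hx => hl x (List.mem_cons_of_mem _ hx)
    obtain ⟨hd, hx, ht, -, -⟩ := M.eWord_spec (hl k List.mem_cons_self)
    have hw : lettersOK (eWord k) = true := by
      have := allBelow_iff.1 e_check k (hl k List.mem_cons_self)
      simp only [Bool.and_eq_true, wordOK] at this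
      exact this.2.1.1
    rw [List.flatMap_cons, prodW_append, ← ht]
    refine ⟨?_, ?_⟩
    · rw [← mul_assoc, M.comm_tau hg, mul_assoc, h1, mul_assoc]
    · rw [lettersOK_iff] at h2 hw ⊢
      intro x hx
      rcases List.mem_append.1 hx with hx | hx
      exacts [hw x hx, h2 x hx]

/-- A point fixed by the four transpositions, outside the 324 points. -/
def Special (r : Pt) : Prop :=
  depOf r.1 ≠ 63 ∧ ∀ e ∈ Data.fixData, ev (trWord e.2.1 e.2.2) r.1 = r.1

theorem special_list {r : Pt} (hr : Special r) :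
    ∃ e ∈ Data.fixPts, e.1 = r.1 := by
  have h := allBelow_iff.1 fix_all r.1 r.2
  simp only [fixAt, Bool.or_eq_true, Nat.beq_eq, Bool.not_eq_true', List.any_eq_true] at h
  rcases h with (h | h) | h
  · exact absurd h hr.1
  · exfalso
    obtain ⟨e, he, hne⟩ := List.all_eq_false.1 h
    exact hne (by rw [Nat.beq_eq]; exact hr.2 e he)
  · exact h

theorem special_image {g : G} (hg : ∀ c, M.rho g (pt c) = pt c) {r : Pt} (hr : Special r) :
    Special (M.rho g r) := by
  refine ⟨fun h63 => hr.1 ?_, fun e he => ?_⟩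
  · have h := allBelow_iff.1 cover_all _ (M.rho g r).2
    rw [coverAt, h63] at h
    simp only [Nat.beq_refl, cond_true, Bool.and_eq_true, Nat.blt_eq, Nat.beq_eq] at h
    have e : M.rho g r = pt ⟨_, h.1⟩ := Fin.ext h.2.symm
    rw [← hg] at e
    rw [(M.rho g).injective e]
    exact not_Fs_of_dep ⟨_, rfl⟩
  · have hd := List.all_eq_true.1 fixData_ok e he
    simp only [Bool.and_eq_true, Nat.blt_eq] at hd
    have ht := M.tau_trOK (p := pt ⟨_, hd.1⟩) hd.2
    have hl : lettersOK (trWord e.2.1 e.2.2) = true := by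
      have := hd.2
      simp only [trOK, Bool.and_eq_true, Nat.blt_eq] at this
      exact lettersOK_trWord this.1.1 this.1.2
    rw [← M.rho_prodW hl, ← ht, ← M.rho_eq_of_comm (M.comm_tau hg _), ht]
    refine congrArg (fun p => (M.rho g p).1) (Fin.ext ?_)
    rw [M.rho_prodW hl]
    exact hr.2 e he

theorem eq_one_of_fixes {g : G} (hg : ∀ c, M.rho g (pt c) = pt c) {q : ℕ} [hq : Fact q.Prime]
    (hq3 : q ≠ 3) (hpow : g ^ q = 1) : g = 1 := by
  classical
  have hlen := fixPts_ok
  rw [Bool.and_eq_true, Nat.beq_eq, List.all_eq_true] at hlen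
  have hspec : ∀ e ∈ Data.fixPts, ∃ h : e.1 < 31671, Special ⟨e.1, h⟩ := fun e he => by
    have h := hlen.2 e he
    simp only [fixPtOK, Bool.and_eq_true, Nat.blt_eq, Nat.beq_eq, Bool.not_eq_true', List.all_eq_true] at h
    refine ⟨h.1.1.1.1, ⟨fun h63 => ?_, h.2⟩⟩
    have h' := h.1.1.1.2
    rw [show depOf (⟨e.1, h.1.1.1.1⟩ : Pt).1 = depOf e.1 from rfl] at h63
    rw [h63] at h'
    simp at h'
  let X : Finset Pt := Finset.univ.filter fun r => Special r
  have hX : X.card = 3 := by
    have e : X = (Data.fixPts.attach.map fun e => (⟨e.1.1, (hspec e.1 e.2).1⟩ : Pt)).toFinset := by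
      ext r
      simp only [X, Finset.mem_filter, Finset.mem_univ, true_and, List.mem_toFinset, List.mem_map,
        List.mem_attach]
      constructor
      · intro hr
        obtain ⟨e, he, h⟩ := special_list hr
        exact ⟨⟨e, he⟩, Fin.ext h⟩
      · rintro ⟨e, rfl⟩
        exact (hspec e.1 e.2).2
    rw [e, List.toFinset_card_of_nodup]
    · rw [List.length_map, List.length_attach]
      exact hlen.1
    · refine List.Nodup.of_map Fin.val ?_
      rw [List.map_map]
      have : (Data.fixPts.map (·.1)).Nodup := by decide +kernel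
      rwa [← List.attach_map_subtype_val Data.fixPts, List.map_map] at this
  have hiff : ∀ r, r ∈ X ↔ M.rho g r ∈ X := by
    intro r
    simp only [X, Finset.mem_filter, Finset.mem_univ, true_and]
    refine ⟨M.special_image hg, fun h => ?_⟩
    have hg' : ∀ c, M.rho g⁻¹ (pt c) = pt c := fun c => by
      conv_lhs => rw [← hg c]
      rw [← Equiv.Perm.mul_apply, ← map_mul, inv_mul_cancel, map_one, Equiv.Perm.one_apply]
    have := M.special_image hg' h
    rwa [← Equiv.Perm.mul_apply, ← map_mul, inv_mul_cancel, map_one, Equiv.Perm.one_apply] at this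
  obtain ⟨⟨r, hr⟩, hfix⟩ := Equiv.Perm.exists_fixed_point_of_prime (n := 1) (p := q)
    (α := X) (by
      rw [Fintype.card_coe, hX]
      intro h
      exact hq3 ((Nat.prime_dvd_prime_iff_eq hq.out Nat.prime_three).1 h))
    (σ := (M.rho g).subtypePerm fun r => (hiff r).symm) (by
      rw [pow_one]
      refine Equiv.ext fun c => Subtype.ext ?_
      rw [Equiv.Perm.subtypePerm_pow]
      simp [← map_pow, hpow])
  have hfix' : M.rho g r = r := congrArg Subtype.val hfix
  obtain ⟨e, he, her⟩ := special_list (Finset.mem_filter.1 hr).2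
  have h := hlen.2 e he
  simp only [fixPtOK, Bool.and_eq_true, Nat.blt_eq, Nat.beq_eq, List.all_eq_true] at h
  obtain ⟨hc, hl⟩ := M.comm_eProd hg e.2 h.1.1.2
  have e0 : M.rho (prodW (e.2.flatMap eWord)) o = r := Fin.ext (by
    rw [M.rho_prodW hl]
    exact h.1.2.trans her)
  have h0 : M.rho g o = o := by
    apply (M.rho (prodW (e.2.flatMap eWord))).injective
    rw [← M.rho_eq_of_comm hc, e0, hfix']
  refine M.eq_one_of_centralizer ?_
  have hr0 := route0_ok
  rw [Bool.and_eq_true, List.all_eq_true] at hr0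
  refine M.route_sound (fun d => M.fixed_mem_centralizer (hg d)) hr0.1 (fun n hn p k j hk => ?_) o rfl
    (M.fixed_mem_centralizer h0)
  have := hr0.2 _ (List.getElem_mem hn)
  rw [← List.getD_eq_getElem _ (Move.root 0) hn, hk] at this
  simp [noGen] at this

end Model

end Cfsg.Agent.Lib.Fi23Max
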