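import Cfsg.Agent.Lib.Fi23Max.Points
import Cfsg.Agent.Lib.Fi23Max.Chain

/-!
The checks for the action on the 324 points: chain, levels and the last candidates.
-/

set_option autoImplicit false
set_option maxRecDepth 40000

namespace Cfsg.Agent.Lib.Fi23Max

open Cfsg.Agent.Lib.Computation (getW okPerm decodeP decodeP_apply mulP decodeP_mulP Rep Level permRep
  forceNat forceNat_eq)
open Cfsg.Agent.Lib.CosetEnum (allBelow allBelow_iff)
open Model (tt)

/-- The packed representation on the indices. -/
noncomputable abbrev R : Rep (Equiv.Perm Ix) Ix := permRep 324 9 (by decide)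

theorem R_val (c : ℕ) : R.val c = decodeP 324 9 c := rfl

theorem chain_ok : R.checkChain Chain.h_chain = true := R.checkChain_of_checkClosure Chain.h_check

theorem gens_eq : Chain.h_gens = [Data.hCodes.getD 0 0, Data.hCodes.getD 1 0] := by decide +kernel

/-- Common fixed points of two masks. -/
noncomputable def common (a b : ℕ) : ℕ :=
  forceNat a fun a => forceNat b fun b => (List.range 324).countP fun e => bit a e && bit b e

/-- The invariant of an index with respect to a reference index. -/
noncomputable def invB (b c f : ℕ) : Bool :=
  (bit (fixMask f) c == bit (fixMask f) b) && (bit (fixMask c) f == bit (fixMask b) f) &&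
    Nat.beq (common (fixMask c) (fixMask f)) (common (fixMask b) (fixMask f))

/-- The candidates at a level. -/
noncomputable def cand (b : ℕ) (refs known : List ℕ) : List ℕ :=
  (List.range 324).filter fun c => !(known.contains c) && refs.all fun f => invB b c f

/-- The indices reached by steps. -/
def stepsOK : List (ℕ × ℕ × ℕ) → List ℕ → Bool
  | [], _ => true
  | (r, a, u) :: l, known => known.contains a && known.contains u && Nat.blt a 324 && Nat.blt u 324 &&
      Nat.beq (getW 9 (ttCode a) u) r && stepsOK l (r :: known)

/-- The known indices after the steps. -/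
def known : List (ℕ × ℕ × ℕ) → List ℕ → List ℕ
  | [], k => k
  | (r, _, _) :: l, k => known l (r :: k)

/-- The bases of the levels. -/
def bases : List ℕ := Data.levels.map (·.1)

/-- A number with no prime divisor other than two and three. -/
def smooth (n : ℕ) : Bool := !(Nat.beq n 0) && Nat.beq ((2 ^ 30 * 3 ^ 30) % n) 0

/-- The check of a level. -/
noncomputable def levelOK (i : ℕ) : Bool :=
  let e := Data.levels.getD i (0, [], [])
  Nat.blt e.1 324 && stepsOK e.2.2 (bases.take i) &&
    (e.2.1.all fun f => Nat.blt f 324 && (known e.2.2 (bases.take i)).contains f) &&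
    !((known e.2.2 (bases.take i)).contains e.1) &&
    smooth (cand e.1 e.2.1 (known e.2.2 (bases.take i))).length &&
    match Chain.h_chain.drop i with
    | [] => false
    | L :: _ => Nat.beq L.base e.1 &&
        (cand e.1 e.2.1 (known e.2.2 (bases.take i))).all fun c =>
          L.orb.toList.any fun en => Nat.beq en.point c

theorem levels_ok : (allBelow 5 levelOK) = true := by decide +kernel

theorem bases_eq : (allBelow 5 fun i => Nat.blt (bases.getD i 0) 324 &&
    match Chain.h_chain.drop i with
    | [] => false
    | L :: _ => Nat.beq L.base (bases.getD i 0)) = true := by decide +kernel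

/-- The check of the last level. -/
noncomputable def tailOK : Bool :=
  (Data.tailRefs.all fun f => Nat.blt f 324 && bases.contains f) &&
    Nat.blt (Data.tail.getD 0 (0, [])).1 324 &&
    !(bases.contains (Data.tail.getD 0 (0, [])).1) &&
    smooth (cand (Data.tail.getD 0 (0, [])).1 Data.tailRefs bases).length &&
    (cand (Data.tail.getD 0 (0, [])).1 Data.tailRefs bases).all fun c =>
      Data.tail.any fun e => Nat.beq e.1 c && stepsOK e.2 (c :: bases) &&
        allBelow 5 fun j => (known e.2 (c :: bases)).contains (Data.eData.getD j (0, [], 0)).1

theorem tail_ok : tailOK = true := by decide +kernel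

theorem bases_length : bases.length = 5 := by decide +kernel

theorem eCodes_tt : (allBelow 5 fun j =>
    Nat.beq (ttCode (Data.eData.getD j (0, [], 0)).1) (Data.eCodes.getD j 0)) = true := by decide +kernel

theorem chain_order : R.order Chain.h_chain = 1088391168 := by decide +kernel

end Cfsg.Agent.Lib.Fi23Max
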