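import Cfsg.Agent.Lib.Fi23Max.LevelChecks
import Cfsg.Agent.Lib.Induced.Burnside

/-!
The image of the stabiliser in the permutations of the 324 points has no element of prime order above
three, and contains the group of the chain.
-/

set_option autoImplicit false
set_option maxRecDepth 40000

namespace Cfsg.Agent.Lib.Fi23Max

open Cfsg.Agent.Lib.Computation (getW okPerm decodeP decodeP_apply mulP decodeP_mulP Rep Level permRep
  forceNat forceNat_eq)
open Cfsg.Agent.Lib.CosetEnum (allBelow allBelow_iff)
open Model (tt)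

/-- A permutation compatible with the transpositions. -/
def Equi (σ : Equiv.Perm Ix) : Prop := ∀ d : Ix, σ * tt d = tt (σ d) * σ

theorem bit_equi {σ : Equiv.Perm Ix} (hσ : Equi σ) (c f : Ix) :
    bit (fixMask (σ f).1) (σ c).1 = bit (fixMask f.1) c.1 := by
  rw [Bool.eq_iff_iff, bit_fixMask, bit_fixMask]
  have e : tt (σ f) (σ c) = σ (tt f c) := (DFunLike.congr_fun (hσ f) c).symm
  rw [e]
  exact σ.injective.eq_iff

theorem countP_range (p : ℕ → Bool) :
    (List.range 324).countP p = ((Finset.univ : Finset Ix).filter fun e => p e.1 = true).card := by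
  have h : ∀ n, (List.range n).countP p = ((Finset.range n).filter fun e => p e = true).card := by
    intro n
    induction n with
    | zero => simp
    | succ n ih =>
      rw [List.range_succ, List.countP_append, ih, Finset.range_add_one, Finset.filter_insert]
      by_cases hp : p n = true <;> simp [hp]
  rw [h]
  symm
  refine Finset.card_bij (fun c _ => c.1) (fun c hc => ?_) (fun c _ d _ e => Fin.ext e) fun x hx => ?_
  · simp only [Finset.mem_filter, Finset.mem_univ, true_and] at hc
    simp [hc, c.2]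
  · simp only [Finset.mem_filter, Finset.mem_range] at hx
    exact ⟨⟨x, hx.1⟩, by simp [hx.2], rfl⟩

theorem common_equi {σ : Equiv.Perm Ix} (hσ : Equi σ) (c f : Ix) :
    common (fixMask (σ c).1) (fixMask (σ f).1) = common (fixMask c.1) (fixMask f.1) := by
  simp only [common, forceNat_eq, countP_range]
  symm
  refine Finset.card_equiv σ fun e => ?_
  simp only [Finset.mem_filter, Finset.mem_univ, true_and]
  rw [bit_equi hσ e c, bit_equi hσ e f]

theorem invB_equi {σ : Equiv.Perm Ix} (hσ : Equi σ) {b c f : Ix} (hf : σ f = f) :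
    invB b.1 (σ c).1 f.1 = invB b.1 c.1 f.1 := by
  have h1 := bit_equi hσ c f
  have h2 := bit_equi hσ f c
  have h3 := common_equi hσ c f
  rw [hf] at h1 h2 h3
  simp only [invB, h1, h2, h3]

/-- All listed indices are fixed. -/
def Fixes (σ : Equiv.Perm Ix) (k : List ℕ) : Prop := ∀ i : Ix, i.1 ∈ k → σ i = i

theorem fixes_known {σ : Equiv.Perm Ix} (hσ : Equi σ) : ∀ (l : List (ℕ × ℕ × ℕ)) (k : List ℕ),
    stepsOK l k = true → Fixes σ k → Fixes σ (known l k) := by
  intro l
  induction l with
  | nil => intro k _ h; exact h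
  | cons e l ih =>
    obtain ⟨r, a, u⟩ := e
    intro k h hk
    simp only [stepsOK, Bool.and_eq_true, List.contains_eq_mem, decide_eq_true_iff, Nat.blt_eq,
      Nat.beq_eq] at h
    obtain ⟨⟨⟨⟨⟨hak, huk⟩, ha⟩, hu⟩, he⟩, hl⟩ := h
    refine ih _ hl fun i hi => ?_
    rcases List.mem_cons.1 hi with hi | hi
    · have e : i = tt ⟨a, ha⟩ ⟨u, hu⟩ := Fin.ext (by
        rw [tt, decodeP_apply (allBelow_iff.1 tt_ok a ha), hi]
        exact he.symm)
      have e' := DFunLike.congr_fun (hσ ⟨a, ha⟩) ⟨u, hu⟩
      simp only [Equiv.Perm.mul_apply] at e'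
      rw [hk ⟨a, ha⟩ hak, hk ⟨u, hu⟩ huk] at e'
      rw [e, e']
    · exact hk i hi

theorem stepsOK_lt : ∀ (l : List (ℕ × ℕ × ℕ)) (k : List ℕ), stepsOK l k = true →
    (∀ x ∈ k, x < 324) → ∀ x ∈ known l k, x < 324 := by
  intro l
  induction l with
  | nil => intro k _ hk x hx; exact hk x hx
  | cons e l ih =>
    obtain ⟨r, a, u⟩ := e
    intro k h hk
    simp only [stepsOK, Bool.and_eq_true, Nat.blt_eq, Nat.beq_eq] at h
    refine ih _ h.2 fun x hx => ?_
    rcases List.mem_cons.1 hx with rfl | hx
    · rw [← h.1.2]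
      exact Cfsg.Agent.Lib.Computation.okPerm_lt (allBelow_iff.1 tt_ok a h.1.1.1.2) h.1.1.2
    · exact hk x hx

theorem mem_cand {b : ℕ} {refs k : List ℕ} {c : ℕ} :
    c ∈ cand b refs k ↔ c < 324 ∧ c ∉ k ∧ ∀ f ∈ refs, invB b c f = true := by
  simp only [cand, List.mem_filter, List.mem_range, Bool.and_eq_true, Bool.not_eq_true',
    List.contains_eq_mem, decide_eq_false_iff_not, List.all_eq_true]

theorem exists_fixed_cand {σ : Equiv.Perm Ix} (hσ : Equi σ) {p : ℕ} [Fact p.Prime] (hp5 : 5 ≤ p)
    (hpow : σ ^ p = 1) {b : ℕ} {refs k : List ℕ} (hk : Fixes σ k) (hrefs : ∀ f ∈ refs, f ∈ k)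
    (hklt : ∀ f ∈ refs, f < 324) (hs : smooth (cand b refs k).length = true) (hb : b < 324) :
    ∃ c : Ix, c.1 ∈ cand b refs k ∧ σ c = c := by
  classical
  let S : Finset Ix := Finset.univ.filter fun c => c.1 ∈ cand b refs k
  have hS : S.card = (cand b refs k).length := by
    have hnd : (cand b refs k).Nodup := List.Nodup.filter _ List.nodup_range
    rw [← List.toFinset_card_of_nodup hnd]
    refine Finset.card_bij (fun c _ => c.1) (fun c hc => ?_) (fun c _ d _ e => Fin.ext e) fun x hx => ?_
    · exact List.mem_toFinset.2 (Finset.mem_filter.1 hc).2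
    · have hx' := List.mem_toFinset.1 hx
      exact ⟨⟨x, (mem_cand.1 hx').1⟩, Finset.mem_filter.2 ⟨Finset.mem_univ _, hx'⟩, rfl⟩
  have hinv : ∀ c : Ix, c.1 ∈ cand b refs k ↔ (σ c).1 ∈ cand b refs k := by
    intro c
    rw [mem_cand, mem_cand]
    have e1 : (σ c).1 ∈ k ↔ c.1 ∈ k := by
      constructor
      · intro h
        have h' := hk (σ c) h
        rwa [σ.injective h'] at h
      · intro h; rwa [hk c h]
    have e2 : ∀ f ∈ refs, invB b (σ c).1 f = invB b c.1 f := fun f hf =>
      invB_equi hσ (b := ⟨b, hb⟩) (f := ⟨f, hklt f hf⟩) (hk _ (hrefs f hf))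
    simp only [e1, c.2, (σ c).2, true_and]
    exact ⟨fun h => ⟨h.1, fun f hf => by rw [e2 f hf]; exact h.2 f hf⟩,
      fun h => ⟨h.1, fun f hf => by rw [← e2 f hf]; exact h.2 f hf⟩⟩
  have hS' : ∀ c, c ∈ S ↔ σ c ∈ S := fun c => by simp [S, hinv c]
  have hdvd : ¬ p ∣ Fintype.card S := by
    rw [Fintype.card_coe, hS]
    intro h
    simp only [smooth, Bool.and_eq_true, Bool.not_eq_true', Nat.beq_eq] at hs
    have h2 : p ∣ 2 ^ 30 * 3 ^ 30 := h.trans (Nat.dvd_of_mod_eq_zero hs.2)
    have hp : p.Prime := Fact.out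
    rcases (Nat.Prime.dvd_mul hp).1 h2 with h3 | h3
    · have := Nat.le_of_dvd (by norm_num) (hp.dvd_of_dvd_pow h3)
      omega
    · have := Nat.le_of_dvd (by norm_num) (hp.dvd_of_dvd_pow h3)
      omega
  obtain ⟨⟨c, hc⟩, hfix⟩ := Equiv.Perm.exists_fixed_point_of_prime (n := 1) hdvd
    (σ := σ.subtypePerm fun c => (hS' c).symm) (by
      rw [pow_one]
      refine Equiv.ext fun c => Subtype.ext ?_
      rw [Equiv.Perm.subtypePerm_pow]
      simp [hpow])
  exact ⟨c, (Finset.mem_filter.1 hc).2, congrArg Subtype.val hfix⟩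

theorem chain_drop : ∀ i, R.checkChain (Chain.h_chain.drop i) = true := by
  intro i
  induction i with
  | zero => exact chain_ok
  | succ i ih =>
    have e : Chain.h_chain.drop (i + 1) = (Chain.h_chain.drop i).tail := List.tail_drop.symm
    rw [e]
    cases h : Chain.h_chain.drop i with
    | nil => rfl
    | cons L rest =>
      rw [h] at ih
      exact R.checkChain_tail ih

theorem grp_drop_le : ∀ i, R.grp (Chain.h_chain.drop i) ≤ R.grp Chain.h_chain := by
  intro i
  induction i with
  | zero => exact le_rfl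
  | succ i ih =>
    cases h : Chain.h_chain.drop i with
    | nil =>
      rw [List.drop_eq_nil_iff] at h
      rw [List.drop_eq_nil_iff.2 (by omega), R.grp_nil]
      exact bot_le
    | cons L rest =>
      have e : Chain.h_chain.drop (i + 1) = rest := by rw [← List.tail_drop, h]; rfl
      have hc := chain_drop i
      rw [h] at hc ih
      rw [e]
      exact (R.grp_tail_le hc).trans ih

theorem grp_drop_fix : ∀ i ≤ 5, ∀ j < i, ∀ g ∈ R.grp (Chain.h_chain.drop i),
    ∀ c : Ix, c.1 = bases.getD j 0 → g c = c := by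
  intro i
  induction i with
  | zero => intro _ j hj; omega
  | succ i ih =>
    intro hi j hj g hg c hc
    have h := allBelow_iff.1 bases_eq i (by omega)
    cases hd : Chain.h_chain.drop i with
    | nil => rw [hd] at h; simp at h
    | cons L rest =>
      rw [hd] at h
      simp only [Bool.and_eq_true, Nat.blt_eq, Nat.beq_eq] at h
      have e : Chain.h_chain.drop (i + 1) = rest := by rw [← List.tail_drop, hd]; rfl
      rw [e] at hg
      have hc' := chain_drop i
      rw [hd] at hc'
      rcases Nat.lt_succ_iff_lt_or_eq.1 hj with hj' | rfl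
      · refine ih (by omega) j hj' g ?_ c hc
        rw [hd]
        exact R.grp_tail_le hc' hg
      · have hf := R.fix_base hc' hg
        have ec : c = R.pt L.base := Fin.ext (by
          rw [hc, h.2]
          exact (Nat.mod_eq_of_lt h.1).symm)
        rw [ec]
        exact hf

namespace Model

variable (M : Model)

theorem equi (y : M.hset) : Equi (M.psi y) := M.psi_tt y

theorem grp_le_range : R.grp Chain.h_chain ≤ M.psi.range := by
  rw [← R.closure_eq_grp Chain.h_check, Subgroup.closure_le]
  rintro _ ⟨s, hs, rfl⟩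
  rw [Set.mem_setOf_eq, gens_eq] at hs
  simp only [List.mem_cons, List.not_mem_nil, or_false] at hs
  have key : ∀ k < 2, decodeP 324 9 (Data.hCodes.getD k 0) ∈ M.psi.range := fun k hk => by
    have h := allBelow_iff.1 h_check k hk
    simp only [Bool.and_eq_true] at h
    obtain ⟨hx, hp⟩ := M.mem_of_word h.1.1
    exact ⟨_, hp⟩
  rcases hs with rfl | rfl
  exacts [key 0 (by omega), key 1 (by omega)]

theorem eq_one_of_fixed {σ : Equiv.Perm Ix} (hσ : Equi σ)
    (h : ∀ j < 5, ∀ c : Ix, c.1 = (Data.eData.getD j (0, [], 0)).1 → σ c = c) : σ = 1 := by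
  have key : ∀ n, n < 324 → ∀ c : Ix, c.1 = (Data.fTree.getD n (0, 0, 0)).1 → σ c = c := by
    intro n
    induction n using Nat.strong_induction_on with
    | _ n ih =>
      intro hn c hc
      have ht := allBelow_iff.1 tree_check n hn
      simp only [Bool.and_eq_true, Nat.blt_eq] at ht
      rcases Nat.eq_zero_or_pos n with rfl | hpos
      · have h2 := ht.2
        simp only [Nat.beq_refl, cond_true, Bool.and_eq_true, Nat.beq_eq] at h2
        exact h 0 (by omega) c (hc.trans h2.1)
      · have hb : Nat.beq n 0 = false := Bool.eq_false_iff.2 fun e => by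
          rw [Nat.beq_eq] at e; omega
        have h2 := ht.2
        rw [hb] at h2
        simp only [cond_false, Bool.and_eq_true, Nat.blt_eq, Nat.beq_eq] at h2
        obtain ⟨⟨⟨hp, hk⟩, he⟩, -⟩ := h2
        have hpl := allBelow_iff.1 tree_check _ (hp.trans hn)
        simp only [Bool.and_eq_true, Nat.blt_eq] at hpl
        have hek := allBelow_iff.1 e_check _ hk
        simp only [Bool.and_eq_true, Nat.blt_eq, wordOK] at hek
        generalize hj : (Data.fTree.getD n (0, 0, 0)).2.2 = j at hk he hek
        set b : Ix := ⟨_, hek.1.1⟩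
        set d : Ix := ⟨_, hpl.1⟩
        have htc := allBelow_iff.1 eCodes_tt j hk
        rw [Nat.beq_eq] at htc
        have e : c = tt b d := Fin.ext (by
          rw [hc, he, tt, decodeP_apply (allBelow_iff.1 tt_ok _ b.2)]
          show _ = getW 9 (ttCode (Data.eData.getD j (0, [], 0)).1) _
          rw [htc])
        have e' := DFunLike.congr_fun (hσ b) d
        simp only [Equiv.Perm.mul_apply] at e'
        rw [h j hk b rfl, ih _ hp (hp.trans hn) d rfl] at e'
        rw [e, e']
  refine Equiv.ext fun c => ?_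
  obtain ⟨n, hn, he⟩ := List.any_eq_true.1 (allBelow_iff.1 tree_cover c.1 c.2)
  rw [Nat.beq_eq] at he
  exact key n (List.mem_range.1 hn) c he.symm

theorem range_no_element {p : ℕ} [Fact p.Prime] (hp5 : 5 ≤ p) :
    ∀ σ ∈ M.psi.range, σ ^ p = 1 → σ = 1 := by
  suffices H : ∀ i ≤ 5, ∀ σ ∈ M.psi.range, σ ^ p = 1 → Fixes σ (bases.take i) → σ = 1 from
    fun σ hσ hpow => H 0 (by omega) σ hσ hpow (fun i hi => by simp at hi)
  intro i hi
  induction hd : 5 - i generalizing i with
  | zero =>
    intro σ ⟨y, hy⟩ hpow hfix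
    have hσ : Equi σ := hy ▸ M.equi y
    have h5 : bases.take i = bases := List.take_of_length_le (by rw [bases_length]; omega)
    rw [h5] at hfix
    have h := tail_ok
    simp only [tailOK, Bool.and_eq_true, List.all_eq_true, List.contains_eq_mem,
      decide_eq_true_iff, Nat.blt_eq] at h
    obtain ⟨c, hc, hfc⟩ := exists_fixed_cand hσ hp5 hpow hfix (fun f hf => (h.1.1.1.1 f hf).2)
      (fun f hf => (h.1.1.1.1 f hf).1) h.1.2 h.1.1.1.2
    obtain ⟨e, -, he⟩ := List.any_eq_true.1 (h.2 c.1 hc)
    simp only [Bool.and_eq_true, Nat.beq_eq] at he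
    have hk : Fixes σ (known e.2 (c.1 :: bases)) := fixes_known hσ _ _ he.1.2 fun i hi => by
      rcases List.mem_cons.1 hi with hi | hi
      · rw [Fin.ext hi]; exact hfc
      · exact hfix i hi
    refine eq_one_of_fixed hσ fun j hj d hd => hk d ?_
    have h' := allBelow_iff.1 he.2 j hj
    simp only [List.contains_eq_mem, decide_eq_true_iff] at h'
    rw [hd]
    exact h'
  | succ d ih =>
    intro σ hσr hpow hfix
    obtain ⟨y, hy⟩ := hσr
    have hσ : Equi σ := hy ▸ M.equi y
    have hi5 : i < 5 := by omega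
    have h := allBelow_iff.1 levels_ok i hi5
    simp only [levelOK, Bool.and_eq_true, List.all_eq_true, List.contains_eq_mem, decide_eq_true_iff,
      Nat.blt_eq] at h
    cases hdrop : Chain.h_chain.drop i with
    | nil => rw [hdrop] at h; simp at h
    | cons L rest =>
      rw [hdrop] at h
      simp only [Bool.and_eq_true, List.all_eq_true, Nat.beq_eq] at h
      obtain ⟨⟨⟨⟨⟨hb, hst⟩, hrefs⟩, -⟩, hsm⟩, -, horb⟩ := h
      have hLb := allBelow_iff.1 bases_eq i hi5
      simp only [hdrop, Bool.and_eq_true, Nat.blt_eq, Nat.beq_eq] at hLb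
      have hk := fixes_known hσ _ _ hst hfix
      obtain ⟨c, hc, hfc⟩ := exists_fixed_cand hσ hp5 hpow hk (fun f hf => (hrefs f hf).2)
        (fun f hf => (hrefs f hf).1) hsm hb
      obtain ⟨en, hen, hpc⟩ := List.any_eq_true.1 (horb c.1 hc)
      rw [Nat.beq_eq] at hpc
      have hch := chain_drop i
      rw [hdrop] at hch
      have hmem := R.fwd_mem_grp hch hen
      have hmem' : R.val en.fwd ∈ R.grp (Chain.h_chain.drop i) := hdrop ▸ hmem
      obtain ⟨t, ht⟩ := M.grp_le_range (grp_drop_le i hmem')
      set u := R.val en.fwd with hu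
      have hub : u (R.pt L.base) = c := by
        have := R.fwd_smul_base hch hen
        rw [Equiv.Perm.smul_def] at this
        rw [hu, this, hpc]
        exact Fin.ext (Nat.mod_eq_of_lt c.2)
      have hσ' : (u⁻¹ * σ * u) ^ p = 1 := by
        rw [show u⁻¹ * σ * u = u⁻¹ * σ * u⁻¹⁻¹ by rw [inv_inv], conj_pow, hpow, mul_one, mul_inv_cancel]
      have hσ'r : u⁻¹ * σ * u ∈ M.psi.range := ⟨t⁻¹ * y * t, by rw [map_mul, map_mul, map_inv, ht, hy]⟩
      have key := ih (i + 1) (by omega) (by omega) _ hσ'r hσ' ?_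
      · calc σ = u * (u⁻¹ * σ * u) * u⁻¹ := by group
          _ = 1 := by rw [key]; group
      intro j hj
      obtain ⟨k, hk', hjk⟩ := List.getElem_of_mem hj
      rw [List.getElem_take] at hjk
      have hk5 : k < i + 1 := by
        rw [List.length_take] at hk'; omega
      have hget : j.1 = bases.getD k 0 := by
        rw [List.getD_eq_getElem _ _ (by rw [bases_length]; omega)]
        exact hjk.symm
      simp only [Equiv.Perm.mul_apply]
      rw [Equiv.Perm.inv_eq_iff_eq]
      rcases Nat.lt_succ_iff_lt_or_eq.1 hk5 with hlt | rfl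
      · have hu1 : u j = j := grp_drop_fix i (by omega) k hlt u hmem' j hget
        rw [hu1]
        refine hfix j ?_
        rw [hget, List.getD_eq_getElem _ _ (by rw [bases_length]; omega)]
        exact List.mem_take_iff_getElem.2 ⟨k, by rw [bases_length]; omega, rfl⟩
      · have hj' : j = R.pt L.base := Fin.ext (by
          rw [hget, hLb.2]
          exact (Nat.mod_eq_of_lt hLb.1).symm)
        rw [hj', hub, hfc]

end Model

end Cfsg.Agent.Lib.Fi23Max
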