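import Cfsg.Agent.Lib.Fi23Max.Kernel
import Cfsg.Agent.Lib.Fi23Max.Solvable

/-!
The stabiliser of the 324 points is solvable and its ninth derived subgroup is not trivial.
-/

set_option autoImplicit false
set_option maxRecDepth 100000

namespace Cfsg.Agent.Lib.Fi23Max

open Cfsg.Agent.Lib.Computation (getW okPerm decodeP decodeP_apply mulP decodeP_mulP okPerm_mulP)
open Cfsg.Agent.Lib.CosetEnum (allBelow allBelow_iff)
open scoped commutatorElement

theorem two_three {n : ℕ} (h0 : n ≠ 0) (h : ∀ q, q.Prime → q ∣ n → q = 2 ∨ q = 3) :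
    ∃ a b, n = 2 ^ a * 3 ^ b := by
  induction n using Nat.strong_induction_on with
  | _ n ih =>
    rcases Nat.lt_or_ge n 2 with hn | hn
    · exact ⟨0, 0, by omega⟩
    · obtain ⟨q, hq, hd⟩ := Nat.exists_prime_and_dvd (by omega : n ≠ 1)
      obtain ⟨m, rfl⟩ := hd
      have hm0 : m ≠ 0 := fun e => h0 (by simp [e])
      obtain ⟨a, b, rfl⟩ := ih m (by have := hq.two_le; nlinarith [Nat.pos_of_ne_zero hm0]) hm0
        fun r hr hd => h r hr (hd.mul_left q)
      rcases h q hq ⟨_, rfl⟩ with rfl | rfl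
      · exact ⟨a + 1, b, by ring⟩
      · exact ⟨a, b + 1, by ring⟩

/-- The identity as a pair of codes. -/
noncomputable def idPair : ℕ × ℕ :=
  (mulP 324 9 (Data.hCodes.getD 0 0) (Data.hInvCodes.getD 0 0),
    mulP 324 9 (Data.hCodes.getD 0 0) (Data.hInvCodes.getD 0 0))

/-- The pair of a letter in the two generators and their inverses. -/
def letPair (k : ℕ) : ℕ × ℕ :=
  bif Nat.blt k 2 then (Data.hCodes.getD k 0, Data.hInvCodes.getD k 0)
  else (Data.hInvCodes.getD (k - 2) 0, Data.hCodes.getD (k - 2) 0)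

/-- The product of two pairs. -/
noncomputable def mulPair (p q : ℕ × ℕ) : ℕ × ℕ := (mulP 324 9 p.1 q.1, mulP 324 9 q.2 p.2)

/-- The commutator of two pairs. -/
noncomputable def comPair (p q : ℕ × ℕ) : ℕ × ℕ :=
  mulPair (mulPair (mulPair (p.2, p.1) (q.2, q.1)) p) q

/-- The starting pairs. -/
noncomputable def seedPairs : List (ℕ × ℕ) :=
  Data.seeds.map fun w => w.foldl (fun p k => mulPair p (letPair k)) idPair

/-- A level of commutators. -/
noncomputable def nextPairs (cur : List (ℕ × ℕ)) (l : List (ℕ × ℕ)) : List (ℕ × ℕ) :=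
  l.map fun e => comPair (cur.getD e.1 idPair) (cur.getD e.2 idPair)

/-- The code of a word in the five transpositions. -/
noncomputable def eCode (w : List ℕ) : ℕ :=
  w.foldl (fun c k => mulP 324 9 c (Data.eCodes.getD k 0)) idPair.1

/-- The letters of the commutator of the two words. -/
def comWord : List ℕ :=
  (Data.wordA.flatMap eWord).reverse ++ (Data.wordB.flatMap eWord).reverse ++
    Data.wordA.flatMap eWord ++ Data.wordB.flatMap eWord

theorem seeds_ok : (Data.seeds.all fun w => w.all fun k => Nat.blt k 4) = true := by decide +kernel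

theorem words_ok : ((Data.wordA ++ Data.wordB).all fun k => Nat.blt k 5) = true := by decide +kernel

/-- The check of the derived series. -/
noncomputable def derivedOK : Bool :=
  Nat.beq Data.program.length 8 &&
    match Data.program.foldl nextPairs seedPairs with
    | p :: q :: _ => Nat.beq p.1 (eCode Data.wordA) && Nat.beq q.1 (eCode Data.wordB)
    | _ => false

theorem derived_ok : derivedOK = true := by decide +kernel

theorem probe_ok : (Nat.blt Data.probe 31671 && !(Nat.beq (ev comWord Data.probe) Data.probe)) = true := by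
  decide +kernel

namespace Model

variable (M : Model)

theorem finite_hset : Finite M.hset :=
  haveI := M.finite
  inferInstance

theorem ker_fixes {g : M.hset} (hg : g ∈ M.psi.ker) (c : Ix) : M.rho g.1 (pt c) = pt c :=
  M.pt_fixed g (by rw [MonoidHom.mem_ker.1 hg]; rfl)

theorem ker_prime {q : ℕ} (hq : q.Prime) (hd : q ∣ Nat.card M.psi.ker) : q = 3 := by
  haveI := M.finite_hset
  haveI := Fact.mk hq
  by_contra h3
  obtain ⟨g, hg⟩ := exists_prime_orderOf_dvd_card' q hd
  have e : g.1.1 = 1 := M.eq_one_of_fixes (M.ker_fixes g.2) h3 (by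
    have := congrArg (fun x : M.psi.ker => x.1.1) (pow_orderOf_eq_one g)
    rw [hg] at this
    simpa using this)
  have : g = 1 := Subtype.ext (Subtype.ext e)
  rw [this, orderOf_one] at hg
  exact hq.one_lt.ne hg

theorem range_prime {q : ℕ} (hq : q.Prime) (hd : q ∣ Nat.card M.psi.range) : q = 2 ∨ q = 3 := by
  haveI := Fact.mk hq
  by_contra h
  have h5 : 5 ≤ q := hq.five_le_of_ne_two_of_ne_three (fun e => h (.inl e)) fun e => h (.inr e)
  obtain ⟨g, hg⟩ := exists_prime_orderOf_dvd_card' q hd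
  have e : g.1 = 1 := M.range_no_element h5 g.1 g.2 (by
    have := congrArg Subtype.val (pow_orderOf_eq_one g)
    rw [hg] at this
    simpa using this)
  rw [show g = 1 from Subtype.ext e, orderOf_one] at hg
  exact hq.one_lt.ne hg

theorem card_split : Nat.card M.psi.range * Nat.card M.psi.ker = Nat.card M.hset := by
  rw [← Subgroup.index_ker, Subgroup.index_mul_card]

theorem solvable : Group.IsSolvable M.hset := by
  haveI := M.finite_hset
  obtain ⟨a, b, h⟩ := two_three (n := Nat.card M.hset) Nat.card_pos.ne' fun q hq hd => by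
    rw [← M.card_split] at hd
    rcases (Nat.Prime.dvd_mul hq).1 hd with h | h
    · exact M.range_prime hq h
    · exact .inr (M.ker_prime hq h)
  exact Lib.Induced.Burnside.isSolvable_of_card_eq 2 3 a b Nat.prime_two Nat.prime_three h

theorem ker_comm (k l : M.psi.ker) : k * l = l * k := by
  haveI := M.finite_hset
  obtain ⟨a, b, h⟩ := two_three (n := Nat.card M.psi.ker) Nat.card_pos.ne' fun q hq hd =>
    .inr (M.ker_prime hq hd)
  have hd : Nat.card M.psi.ker * 1088391168 ∣ 4089470473293004800 := by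
    rw [← M.card, ← chain_order, ← R.card_grp chain_ok, mul_comm]
    refine (Nat.mul_dvd_mul_right (Subgroup.card_dvd_of_le M.grp_le_range) _).trans ?_
    rw [M.card_split]
    exact Subgroup.card_subgroup_dvd_card _
  have ha : a = 0 := by
    by_contra ha
    exact absurd (M.ker_prime Nat.prime_two (h ▸ (dvd_pow_self 2 ha).mul_right _)) (by norm_num)
  have hb : b ≤ 1 := by
    by_contra hb
    have : 3 ^ 2 * 1088391168 ∣ 4089470473293004800 := by
      refine (Nat.mul_dvd_mul_right ?_ _).trans hd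
      rw [h]
      exact (pow_dvd_pow 3 (by omega)).mul_left _
    norm_num at this
  subst ha
  haveI : IsCyclic M.psi.ker := by
    rcases Nat.le_one_iff_eq_zero_or_eq_one.1 hb with rfl | rfl
    · haveI : Subsingleton M.psi.ker := (Nat.card_eq_one_iff_unique.1 (by simpa using h)).1
      exact isCyclic_of_subsingleton
    · haveI := Fact.mk Nat.prime_three
      exact isCyclic_of_prime_card (p := 3) (by simpa using h)
  exact (IsCyclic.commutative (α := M.psi.ker)).is_comm.comm k l

/-- A pair of codes stands for an element of a term of the derived series. -/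
def Good (n : ℕ) (p : ℕ × ℕ) : Prop :=
  okPerm 324 9 p.1 = true ∧ okPerm 324 9 p.2 = true ∧
    ∃ x ∈ derivedSeries M.hset n, M.psi x = decodeP 324 9 p.1 ∧ M.psi x⁻¹ = decodeP 324 9 p.2

theorem good_mul {n : ℕ} {p q : ℕ × ℕ} (hp : M.Good n p) (hq : M.Good n q) : M.Good n (mulPair p q) := by
  obtain ⟨hp1, hp2, x, hx, ex, ex'⟩ := hp
  obtain ⟨hq1, hq2, y, hy, ey, ey'⟩ := hq
  refine ⟨okPerm_mulP hp1 hq1, okPerm_mulP hq2 hp2, x * y, Subgroup.mul_mem _ hx hy, ?_, ?_⟩
  · rw [map_mul, ex, ey]; exact (decodeP_mulP hp1 hq1).symm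
  · rw [mul_inv_rev, map_mul, ex', ey']; exact (decodeP_mulP hq2 hp2).symm

theorem good_swap {n : ℕ} {p : ℕ × ℕ} (hp : M.Good n p) : M.Good n (p.2, p.1) := by
  obtain ⟨hp1, hp2, x, hx, ex, ex'⟩ := hp
  exact ⟨hp2, hp1, x⁻¹, Subgroup.inv_mem _ hx, ex', by rwa [inv_inv]⟩

theorem good_com {n : ℕ} {p q : ℕ × ℕ} (hp : M.Good n p) (hq : M.Good n q) :
    M.Good (n + 1) (comPair p q) := by
  obtain ⟨hp1, hp2, x, hx, ex, ex'⟩ := hp
  obtain ⟨hq1, hq2, y, hy, ey, ey'⟩ := hq
  have h1 := okPerm_mulP hp2 hq2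
  have h2 := okPerm_mulP h1 hp1
  have g1 := okPerm_mulP hq1 hp1
  have g2 := okPerm_mulP hp2 g1
  refine ⟨okPerm_mulP h2 hq1, okPerm_mulP hq2 g2, ⁅x⁻¹, y⁻¹⁆, ?_, ?_, ?_⟩
  · rw [derivedSeries_succ]
    exact Subgroup.commutator_mem_commutator (Subgroup.inv_mem _ hx) (Subgroup.inv_mem _ hy)
  · rw [commutatorElement_def, inv_inv, inv_inv]
    show _ = decodeP 324 9 (mulP 324 9 (mulP 324 9 (mulP 324 9 p.2 q.2) p.1) q.1)
    rw [map_mul, map_mul, map_mul, ex, ey, ex', ey', decodeP_mulP h2 hq1, decodeP_mulP h1 hp1,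
      decodeP_mulP hp2 hq2]
  · rw [commutatorElement_def, inv_inv, inv_inv, mul_inv_rev, mul_inv_rev, mul_inv_rev, inv_inv, inv_inv]
    show _ = decodeP 324 9 (mulP 324 9 q.2 (mulP 324 9 p.2 (mulP 324 9 q.1 p.1)))
    rw [map_mul, map_mul, map_mul, ex, ey, ex', ey', decodeP_mulP hq2 g2, decodeP_mulP hp2 g1,
      decodeP_mulP hq1 hp1]

theorem good_gen {k : ℕ} (hk : k < 2) : M.Good 0 (Data.hCodes.getD k 0, Data.hInvCodes.getD k 0) := by
  have h := allBelow_iff.1 h_check k hk
  simp only [Bool.and_eq_true] at h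
  obtain ⟨hx, hp⟩ := M.mem_of_word h.1.1
  have hw := h.1.1
  simp only [wordOK, Bool.and_eq_true] at hw
  refine ⟨hw.1.2, h.1.2, ⟨_, hx⟩, by simp, hp, ?_⟩
  rw [map_inv, hp]
  refine inv_eq_of_mul_eq_one_left (Equiv.ext fun c => Fin.ext ?_)
  have h' := allBelow_iff.1 h.2 c.1 c.2
  rw [Nat.beq_eq] at h'
  rw [Equiv.Perm.mul_apply, decodeP_apply h.1.2, decodeP_apply hw.1.2, Equiv.Perm.one_apply]
  exact h'

theorem good_id (n : ℕ) : M.Good n idPair := by
  obtain ⟨h1, h2, x, -, ex, ex'⟩ := M.good_gen (k := 0) (by omega)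
  have h3 := okPerm_mulP h1 h2
  unfold Good idPair
  refine ⟨h3, h3, 1, Subgroup.one_mem _, ?_, ?_⟩ <;>
  · simp only [inv_one]
    rw [decodeP_mulP h1 h2, ← ex, ← ex', ← map_mul, mul_inv_cancel]

theorem good_let {k : ℕ} (hk : k < 4) : M.Good 0 (letPair k) := by
  rcases Nat.lt_or_ge k 2 with h | h
  · have e : Nat.blt k 2 = true := by rw [Nat.blt_eq]; exact h
    rw [letPair, e, cond_true]
    exact M.good_gen h
  · have e : Nat.blt k 2 = false := Bool.eq_false_iff.2 fun e => by rw [Nat.blt_eq] at e; omega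
    rw [letPair, e, cond_false]
    exact M.good_swap (M.good_gen (k := k - 2) (by omega))

theorem good_seeds : ∀ p ∈ seedPairs, M.Good 0 p := by
  intro p hp
  obtain ⟨w, hw, rfl⟩ := List.mem_map.1 hp
  have hl := List.all_eq_true.1 (List.all_eq_true.1 seeds_ok w hw)
  clear hw hp
  generalize hs : idPair = s
  have : M.Good 0 s := hs ▸ M.good_id 0
  clear hs
  induction w generalizing s with
  | nil => exact this
  | cons k w ih =>
    exact ih (fun x hx => hl x (List.mem_cons_of_mem _ hx)) _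
      (M.good_mul this (M.good_let (Nat.le_of_ble_eq_true (hl k List.mem_cons_self))))

theorem good_program : ∀ (P : List (List (ℕ × ℕ))) (n : ℕ) (cur : List (ℕ × ℕ)),
    (∀ p ∈ cur, M.Good n p) → ∀ p ∈ P.foldl nextPairs cur, M.Good (n + P.length) p := by
  intro P
  induction P with
  | nil => intro n cur h; simpa using h
  | cons l P ih =>
    intro n cur h
    have hget : ∀ i, M.Good n (cur.getD i idPair) := fun i => by
      rcases Nat.lt_or_ge i cur.length with hi | hi
      · rw [List.getD_eq_getElem _ _ hi]; exact h _ (List.getElem_mem hi)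
      · rw [List.getD_eq_default _ _ hi]; exact M.good_id n
    rw [List.foldl_cons, List.length_cons, ← Nat.add_assoc, Nat.add_right_comm]
    refine ih (n + 1) _ fun p hp => ?_
    obtain ⟨e, -, rfl⟩ := List.mem_map.1 hp
    exact M.good_com (hget _) (hget _)

theorem eCode_spec : ∀ w : List ℕ, (∀ k ∈ w, k < 5) → okPerm 324 9 (eCode w) = true ∧
    ∃ hx : prodW (w.flatMap eWord) ∈ M.hset, M.psi ⟨_, hx⟩ = decodeP 324 9 (eCode w) := by
  intro w
  induction w using List.reverseRecOn with
  | nil =>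
    intro _
    obtain ⟨h, -, x, -, ex, ex'⟩ := M.good_id 0
    refine ⟨h, by simp [prodW, Subgroup.one_mem], ?_⟩
    obtain ⟨h1, h2, y, -, ey, ey'⟩ := M.good_gen (k := 0) (by omega)
    simp only [eCode, List.foldl_nil, idPair]
    rw [decodeP_mulP h1 h2, ← ey, ← ey', ← map_mul, mul_inv_cancel]
    exact congrArg M.psi (Subtype.ext (by simp [prodW]))
  | append_singleton w k ih =>
    intro hw
    obtain ⟨h, hx, hp⟩ := ih fun x hx => hw x (List.mem_append_left _ hx)
    obtain ⟨-, hk, -, hpk, hok⟩ := M.eWord_spec (hw k (by simp))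
    have e : eCode (w ++ [k]) = mulP 324 9 (eCode w) (Data.eCodes.getD k 0) := by
      simp [eCode]
    have ew : prodW ((w ++ [k]).flatMap eWord) = prodW (w.flatMap eWord) * prodW (eWord k) := by
      simp [prodW_append]
    rw [e]
    refine ⟨okPerm_mulP h hok, ew ▸ M.hset.mul_mem hx hk, ?_⟩
    rw [decodeP_mulP h hok, ← hp, ← hpk, ← map_mul]
    exact congrArg M.psi (Subtype.ext ew)

theorem ninth_ne_bot : derivedSeries M.hset 9 ≠ ⊥ := by
  intro hbot
  have h := derived_ok
  simp only [derivedOK, Bool.and_eq_true, Nat.beq_eq] at h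
  have hgood := M.good_program Data.program 0 seedPairs M.good_seeds
  rw [h.1] at hgood
  rcases hd : Data.program.foldl nextPairs seedPairs with _ | ⟨p, _ | ⟨q, rest⟩⟩
  · rw [hd] at h; simp at h
  · rw [hd] at h; simp at h
  · rw [hd] at h hgood
    simp only [Bool.and_eq_true, Nat.beq_eq] at h
    obtain ⟨-, -, a, ha, ea, -⟩ := hgood p List.mem_cons_self
    obtain ⟨-, -, b, hb, eb, -⟩ := hgood q (List.mem_cons_of_mem _ List.mem_cons_self)
    have hw := List.all_eq_true.1 words_ok
    have hA : ∀ k ∈ Data.wordA, k < 5 := fun k hk => Nat.le_of_ble_eq_true (hw k (List.mem_append_left _ hk))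
    have hB : ∀ k ∈ Data.wordB, k < 5 := fun k hk => Nat.le_of_ble_eq_true (hw k (List.mem_append_right _ hk))
    obtain ⟨-, hxA, eA⟩ := M.eCode_spec _ hA
    obtain ⟨-, hxB, eB⟩ := M.eCode_spec _ hB
    set A : M.hset := ⟨_, hxA⟩
    set B : M.hset := ⟨_, hxB⟩
    have hk : A⁻¹ * a ∈ M.psi.ker := by
      rw [MonoidHom.mem_ker, map_mul, map_inv, ea, eA, h.2.1, inv_mul_cancel]
    have hl : B⁻¹ * b ∈ M.psi.ker := by
      rw [MonoidHom.mem_ker, map_mul, map_inv, eb, eB, h.2.2, inv_mul_cancel]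
    set k := A⁻¹ * a with hkd
    set l := B⁻¹ * b with hld
    have hcA : ∀ x ∈ M.psi.ker, Commute x A := fun x hx => Subtype.ext
      ((M.comm_eProd (M.ker_fixes hx) _ hA).1)
    have hcB : ∀ x ∈ M.psi.ker, Commute x B := fun x hx => Subtype.ext
      ((M.comm_eProd (M.ker_fixes hx) _ hB).1)
    have hkl : Commute k l := congrArg Subtype.val (M.ker_comm ⟨k, hk⟩ ⟨l, hl⟩)
    have key : a⁻¹ * b⁻¹ * a * b = A⁻¹ * B⁻¹ * A * B := by
      rw [show a = A * k by rw [hkd]; group, show b = B * l by rw [hld]; group]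
      calc (A * k)⁻¹ * (B * l)⁻¹ * (A * k) * (B * l)
          = k⁻¹ * (A⁻¹ * l⁻¹) * B⁻¹ * A * (k * B) * l := by group
        _ = k⁻¹ * (l⁻¹ * A⁻¹) * B⁻¹ * A * (B * k) * l := by
          rw [((hcA l hl).inv_inv.symm).eq, (hcB k hk).eq]
        _ = k⁻¹ * l⁻¹ * (A⁻¹ * B⁻¹ * A * B) * (k * l) := by group
        _ = k⁻¹ * l⁻¹ * ((k * l) * (A⁻¹ * B⁻¹ * A * B)) := by
          have c : ∀ x ∈ M.psi.ker, Commute x (A⁻¹ * B⁻¹ * A * B) := fun x hx =>
            (((hcA x hx).inv_right.mul_right (hcB x hx).inv_right).mul_right (hcA x hx)).mul_right (hcB x hx)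
          rw [((c k hk).mul_left (c l hl)).eq]
          group
        _ = A⁻¹ * B⁻¹ * A * B := by
          rw [hkl.eq]
          group
    have hmem : a⁻¹ * b⁻¹ * a * b ∈ derivedSeries M.hset 9 := by
      have := Subgroup.commutator_mem_commutator (Subgroup.inv_mem _ ha) (Subgroup.inv_mem _ hb)
      rw [commutatorElement_def, inv_inv, inv_inv] at this
      rwa [← derivedSeries_succ] at this
    rw [hbot, Subgroup.mem_bot, key] at hmem
    have h1 : (A⁻¹ * B⁻¹ * A * B).1 = 1 := by rw [hmem]; rfl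
    obtain ⟨-, hlA⟩ := M.comm_eProd (g := 1) (fun c => by simp) _ hA
    obtain ⟨-, hlB⟩ := M.comm_eProd (g := 1) (fun c => by simp) _ hB
    have h2 : prodW comWord = 1 := by
      rw [← h1, comWord, prodW_append, prodW_append, prodW_append, prodW_reverse (lettersOK_iff.1 hlA),
        prodW_reverse (lettersOK_iff.1 hlB)]
      rfl
    have hlc : lettersOK comWord = true := by
      rw [lettersOK_iff] at hlA hlB ⊢
      intro x hx
      simp only [comWord, List.mem_append, List.mem_reverse] at hx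
      rcases hx with ((hx | hx) | hx) | hx
      exacts [hlA x hx, hlB x hx, hlA x hx, hlB x hx]
    have hp := probe_ok
    simp only [Bool.and_eq_true, Nat.blt_eq, Bool.not_eq_true'] at hp
    have := M.rho_prodW hlc ⟨_, hp.1⟩
    rw [h2, map_one, Equiv.Perm.one_apply] at this
    have hpb := hp.2
    rw [← this] at hpb
    simp at hpb

theorem tenth_ne_ninth : derivedSeries M.hset 10 ≠ derivedSeries M.hset 9 := by
  intro h
  obtain ⟨n, hn⟩ := (Group.isSolvable_def M.hset).1 M.solvable
  have hc : ∀ m, derivedSeries M.hset (9 + m) = derivedSeries M.hset 9 := by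
    intro m
    induction m with
    | zero => rfl
    | succ m ih => rw [← Nat.add_assoc, derivedSeries_succ, ih, ← derivedSeries_succ]; exact h
  refine M.ninth_ne_bot ?_
  rw [← hc n, eq_bot_iff, ← hn]
  exact derivedSeries_antitone _ (Nat.le_add_left n 9)

end Model

end Cfsg.Agent.Lib.Fi23Max
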