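import Cfsg.Agent.Lib.Fi23Max.Checks

/-!
The setwise stabiliser of the 324 points is a maximal subgroup of Fi23.
-/

set_option autoImplicit false
set_option maxRecDepth 20000

namespace Cfsg.Agent.Lib.Fi23Max

open Cfsg.Agent.Lib.CosetEnum (allBelow allBelow_iff allFrom allBelow_add get32 force force_eq)

theorem lettersOK_trWord {path : List ℕ} {k : ℕ} (h : lettersOK path = true) (hk : k < 10) :
    lettersOK (trWord path k) = true := by
  rw [lettersOK_iff] at h ⊢
  intro g hg
  simp only [trWord, List.mem_append, List.mem_cons, List.mem_reverse] at hg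
  rcases hg with hg | rfl | hg
  exacts [h g hg, hk, h g hg]

namespace Model

variable (M : Model)

theorem hword_mem {k : ℕ} (hk : k < 2) : prodW (Data.hWords.getD k []) ∈ M.hset := by
  have h := allBelow_iff.1 h_check k hk
  simp only [Bool.and_eq_true] at h
  exact (M.mem_of_word h.1.1).1

theorem route_sound {K : Subgroup G} (hF : ∀ d, M.tau (pt d) ∈ K) {e : ℕ × List Move × List ℕ}
    (he : routeOK e = true)
    (hgen : ∀ n < e.2.1.length, ∀ p k j, e.2.1.getD n (.root 0) = .gen p k j → k < 2 →
      prodW (Data.hWords.getD k []) ∈ K)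
    (r : Pt) (hr : r.1 = e.1) (hrK : r ∈ M.pts K) : K = ⊤ := by
  have h := he
  simp only [routeOK, Bool.and_eq_true] at h
  have key : ∀ n < e.2.1.length, ∀ p : Pt, p.1 = ptAt e.2.1 n → p ∈ M.pts K := by
    intro n
    induction n using Nat.strong_induction_on with
    | _ n ih =>
      intro hn p hp
      have hm := allBelow_iff.1 h.1 n hn
      rw [Bool.and_eq_true] at hm
      have hm2 := hm.2
      unfold moveOK at hm2
      cases hmv : e.2.1.getD n (.root 0) with
      | given q j =>
        rw [hmv] at hm2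
        simp only [Bool.and_eq_true, Nat.blt_eq, Nat.beq_eq] at hm2
        have e' : p = pt ⟨j, hm2.1⟩ := Fin.ext (by
          rw [hp, ptAt, hmv]; exact hm2.2.symm)
        rw [e']
        exact hF _
      | root q =>
        rw [hmv] at hm2
        rw [Nat.beq_eq] at hm2
        have e' : p = r := Fin.ext (by rw [hp, ptAt, hmv, hr]; exact hm2)
        rw [e']
        exact hrK
      | gen q k j =>
        rw [hmv] at hm2
        simp only [Bool.and_eq_true, Nat.blt_eq, Nat.beq_eq] at hm2
        have hj : ptAt e.2.1 j < 31671 := by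
          have := allBelow_iff.1 h.1 j (hm2.1.2.trans hn)
          simp only [Bool.and_eq_true, Nat.blt_eq] at this
          exact this.1
        have hl : lettersOK (Data.hWords.getD k []) = true := by
          have := allBelow_iff.1 h_check k hm2.1.1
          simp only [Bool.and_eq_true, wordOK] at this
          exact this.1.1.1.1
        have e' : p = M.rho (prodW (Data.hWords.getD k [])) ⟨_, hj⟩ := Fin.ext (by
          rw [hp, ptAt, hmv, M.rho_prodW hl]; exact hm2.2.symm)
        rw [e']
        exact M.pts_closed (hgen n hn q k j hmv hm2.1.1) (ih j hm2.1.2 (hm2.1.2.trans hn) _ rfl)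
      | conj q path k ja jb =>
        rw [hmv] at hm2
        simp only [Bool.and_eq_true, Nat.blt_eq, Nat.beq_eq] at hm2
        obtain ⟨⟨⟨hja, hjb⟩, htr⟩, hev⟩ := hm2
        have hla : ∀ j < e.2.1.length, ptAt e.2.1 j < 31671 := fun j hj => by
          have := allBelow_iff.1 h.1 j hj
          simp only [Bool.and_eq_true, Nat.blt_eq] at this
          exact this.1
        have ht := M.tau_trOK (p := ⟨_, hla ja (hja.trans hn)⟩) htr
        have htr' := htr
        simp only [trOK, Bool.and_eq_true, Nat.blt_eq] at htr'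
        have e' : p = M.rho (prodW (trWord path k)) ⟨_, hla jb (hjb.trans hn)⟩ := Fin.ext (by
          rw [hp, ptAt, hmv, M.rho_prodW (lettersOK_trWord htr'.1.1 htr'.1.2)]
          exact hev.symm)
        rw [e', ← ht]
        exact M.pts_closed (ih ja hja (hja.trans hn) _ rfl) (ih jb hjb (hjb.trans hn) _ rfl)
  refine M.eq_top_of_std fun k hk => ?_
  have hk' := allBelow_iff.1 h.2 k hk
  simp only [Bool.and_eq_true, Nat.blt_eq, Nat.beq_eq] at hk'
  exact key _ hk'.1 _ hk'.2.symm

theorem eq_top_of_extra_point {K : Subgroup G} (hK : M.hset ≤ K) {r : Pt} (hr : r ∈ M.pts K)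
    (hrF : r ∉ Fs) : K = ⊤ := by
  have key : ∀ d, ∀ s : Pt, depOf s.1 = d → d ≠ 63 → s ∈ M.pts K → K = ⊤ := by
    intro d
    induction d using Nat.strong_induction_on with
    | _ d ih =>
      intro s hs hd hsK
      have h := allBelow_iff.1 cover_all s.1 s.2
      have h63 : Nat.beq (depOf s.1) 63 = false := Bool.eq_false_iff.2 fun e => by
        rw [Nat.beq_eq] at e; omega
      rw [coverAt, h63, cond_false] at h
      cases h0 : Nat.beq (depOf s.1) 0
      · rw [h0, cond_false] at h
        simp only [Bool.and_eq_true, Nat.blt_eq, Nat.beq_eq] at h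
        obtain ⟨⟨⟨⟨hlt, hg⟩, hp⟩, hdp⟩, hev⟩ := h
        have hl : lettersOK (eWord (genOf s.1)) = true := by
          have := allBelow_iff.1 e_check _ hg
          simp only [Bool.and_eq_true, wordOK] at this
          exact this.2.1.1
        refine ih (depOf (parOf s.1)) (by omega) ⟨_, hp⟩ rfl (by omega) ?_
        have e' : M.rho (prodW (eWord (genOf s.1))) ⟨_, hp⟩ = s := Fin.ext (by
          rw [M.rho_prodW hl]; exact hev)
        have hmem := M.pts_closed (K.inv_mem (hK (M.eTau_mem hg))) hsK
        rw [map_inv, Equiv.Perm.inv_def, (Equiv.symm_apply_eq _).2 e'.symm] at hmem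
        exact hmem
      · rw [h0, cond_true] at h
        simp only [Bool.and_eq_true, Nat.blt_eq, Nat.beq_eq] at h
        exact M.route_sound (fun d => hK (M.tau_pt_mem d)) (allBelow_iff.1 routes_ok _ h.1)
          (fun n _ p k j _ hk => hK (M.hword_mem hk)) s h.2.symm hsK
  refine key _ r rfl (fun h63 => hrF ?_) hr
  have h := allBelow_iff.1 cover_all r.1 r.2
  rw [coverAt, h63] at h
  simp only [Nat.beq_refl, cond_true, Bool.and_eq_true, Nat.blt_eq, Nat.beq_eq] at h
  exact ⟨⟨_, h.1⟩, Fin.ext h.2⟩

theorem mem_hset_of_maps {x : G} (h : ∀ c, M.rho x (pt c) ∈ Fs) : x ∈ M.hset := by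
  choose σ hσ using h
  have hinj : Function.Injective σ := fun a b e => pt_inj ((M.rho x).injective (by rw [← hσ, ← hσ, e]))
  exact (M.mem_of_code (σ := Equiv.ofBijective σ (Finite.injective_iff_bijective.1 hinj))
    fun c => (hσ c).symm).1

theorem root_not_mem : ((allBelow 324 fun c => !(Nat.beq (ptN c) 0)) : Bool) = true := by
  decide +kernel

theorem zero_not_mem : (⟨0, by omega⟩ : Pt) ∉ Fs := by
  rintro ⟨c, hc⟩
  have h := allBelow_iff.1 root_not_mem c.1 c.2
  have e : ptN c.1 = 0 := congrArg Fin.val hc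
  rw [e] at h
  simp at h

theorem hset_isCoatom : IsCoatom M.hset := by
  refine ⟨fun h => ?_, fun K hK => ?_⟩
  · obtain ⟨x, hx⟩ := M.trans (pt ⟨0, by omega⟩)
    have hmem : x⁻¹ ∈ M.hset := h ▸ Subgroup.mem_top _
    refine zero_not_mem ?_
    have := (hmem (pt ⟨0, by omega⟩)).1 ⟨_, rfl⟩
    rwa [← hx, ← Equiv.Perm.mul_apply, ← map_mul, inv_mul_cancel, map_one, Equiv.Perm.one_apply] at this
  · obtain ⟨x, hxK, hxH⟩ := SetLike.exists_of_lt hK
    have : ∃ c, M.rho x (pt c) ∉ Fs := by
      by_contra hc
      exact hxH (M.mem_hset_of_maps fun c => not_not.1 fun h => hc ⟨c, h⟩)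
    obtain ⟨c, hc⟩ := this
    exact M.eq_top_of_extra_point hK.le (M.pts_closed hxK (hK.le (M.tau_pt_mem c))) hc

end Model

end Cfsg.Agent.Lib.Fi23Max
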