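import Cfsg.Agent.S1697
import Cfsg.Agent.Lib.FischerExist.Fi23Conj
import Cfsg.Agent.Lib.FischerExist.Generic

/-!
The presented Fi23 on 31671 points: the transposition of a point, and the criterion that a subgroup
containing the transpositions of the ten standard points is everything.
-/

set_option autoImplicit false
set_option maxRecDepth 20000

namespace Cfsg.Agent.Lib.Fi23Max

open Cfsg.Agent.Lib.CosetEnum

/-- The presented Fi23. -/
abbrev G : Type := PresentedGroup Fi23x31671.pres

/-- The image of a letter. -/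
noncomputable abbrev phi (g : ℕ) : G := Fi23x31671.letters.phi Fi23x31671.pres g

/-- The image of a word. -/
noncomputable def prodW (l : List ℕ) : G := (l.map phi).prod

/-- A point moved by a word, written for the kernel. -/
noncomputable def ev (l : List ℕ) (i : ℕ) : ℕ := scan 10 Fi23x31671.table l.reverse i

/-- All letters are valid. -/
def lettersOK (l : List ℕ) : Bool := l.all fun g => Nat.blt g 10

theorem lettersOK_iff {l : List ℕ} : lettersOK l = true ↔ ∀ g ∈ l, g < 10 := by
  simp only [lettersOK, List.all_eq_true, Nat.blt_eq]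

/-- The standard point of a letter: reached from that of `7` along the diagram. -/
def stdPts : List ℕ := [11589, 8004, 8003, 8000, 8001, 8002, 8005, 8006, 7999, 8007]

/-- The points. -/
abbrev Pt : Type := Fin 31671

/-- The data of the model. -/
structure Model where
  /-- the action -/
  rho : G →* Equiv.Perm Pt
  gen_eq : ∀ g < Fi23x31671.letters.K, ∀ i : Pt,
    ((rho (Fi23x31671.letters.phi Fi23x31671.pres g))⁻¹ i).1 =
      get32 Fi23x31671.table (i.1 * Fi23x31671.letters.K + g)
  stab : ∀ x, x ∈ Fi23Orbit.J ↔ rho x ⟨0, by omega⟩ = ⟨0, by omega⟩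
  trans : ∀ i, ∃ x, rho x ⟨0, by omega⟩ = i
  inj : Function.Injective rho
  card : Nat.card G = 4089470473293004800
  central : ∀ x ∈ Fi23Orbit.J, x * Fi23Orbit.z.1 * x⁻¹ = Fi23Orbit.z.1

theorem exists_model : Nonempty Model := by
  classical
  obtain ⟨ρ, ρJ, hρ, hst, htr, hinj, -, hge, hz0, hz1, hG, hJ⟩ := Fi23Orbit.main
  haveI hfin : Finite G := Nat.finite_of_card_ne_zero (by
    intro h
    have := hG.symm.trans h
    omega)
  have hk : Nat.card ρJ.ker ≤ 2 := by
    have h := ρJ.ker.card_mul_index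
    rw [Subgroup.index_ker, hJ] at h
    by_contra hlt
    have : 3 * 64561751654400 ≤ Nat.card ρJ.ker * Nat.card ρJ.range :=
      Nat.mul_le_mul (by omega) hge
    omega
  have hker : ∀ x : Fi23Orbit.J, ρJ x = 1 → x = 1 ∨ x = Fi23Orbit.z := by
    intro x hx
    haveI : Finite ρJ.ker := inferInstance
    rcases FischerExist.Generic.eq_or_eq_of_card_le_two hk (a := (1 : ρJ.ker))
      (b := ⟨Fi23Orbit.z, MonoidHom.mem_ker.2 hz0⟩) (fun h => hz1 (congrArg Subtype.val h).symm)
      ⟨x, MonoidHom.mem_ker.2 hx⟩ with h | h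
    · exact Or.inl (congrArg Subtype.val h)
    · exact Or.inr (congrArg Subtype.val h)
  refine ⟨⟨ρ, hρ, hst, htr, hinj, hG, fun x hx => ?_⟩⟩
  rcases hker (⟨x, hx⟩ * Fi23Orbit.z * ⟨x, hx⟩⁻¹) (by simp [hz0]) with h | h
  · exact absurd (conj_eq_one_iff.1 h) hz1
  · exact congrArg Subtype.val h

instance simpleG : IsSimpleGroup G := Cfsg.Agent.S1697.result.1

namespace Model

variable (M : Model)

theorem finite (M : Model) : Finite G := Nat.finite_of_card_ne_zero (by rw [M.card]; omega)

theorem prodW_append (a b : List ℕ) : prodW (a ++ b) = prodW a * prodW b := by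
  simp [prodW]

theorem prodW_cons (g : ℕ) (b : List ℕ) : prodW (g :: b) = phi g * prodW b := rfl

theorem phi_sq {g : ℕ} (hg : g < 10) : phi g * phi g = 1 := by
  have h : ([g, g].map phi).prod = 1 :=
    Letters.prod_rel Fi23x31671.rels_mem Fi23x31671.letters_ok Fi23x31671.table_ok.col
      (by interval_cases g <;> decide +kernel)
  simpa using h

theorem prodW_reverse {l : List ℕ} (h : ∀ g ∈ l, g < 10) : prodW l.reverse = (prodW l)⁻¹ := by
  induction l with
  | nil => simp [prodW]
  | cons g l ih =>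
    rw [List.reverse_cons, prodW_append, ih fun x hx => h x (List.mem_cons_of_mem _ hx), prodW_cons,
      prodW_cons, mul_inv_rev, inv_eq_of_mul_eq_one_right (phi_sq (h g List.mem_cons_self))]
    simp [prodW]

theorem rho_prodW {l : List ℕ} (h : lettersOK l = true) (i : Pt) :
    (M.rho (prodW l) i).1 = ev l i.1 := by
  have h' := lettersOK_iff.1 h
  have e := rho_scan Fi23x31671.letters _ M.rho M.gen_eq l.reverse
    (fun g hg => h' g (List.mem_reverse.1 hg)) i
  rw [← map_inv] at e
  change (M.rho (prodW l.reverse)⁻¹ i).1 = _ at e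
  rwa [prodW_reverse h', inv_inv] at e

/-- The base point. -/
abbrev o : Pt := ⟨0, by omega⟩

/-- The transposition of a point. -/
noncomputable def tau (i : Pt) : G :=
  (M.trans i).choose * Fi23Orbit.z.1 * ((M.trans i).choose)⁻¹

theorem tau_rho_o (x : G) : M.tau (M.rho x o) = x * Fi23Orbit.z.1 * x⁻¹ := by
  set y := (M.trans (M.rho x o)).choose with hy
  have hy' : M.rho y o = M.rho x o := (M.trans (M.rho x o)).choose_spec
  have hj : y⁻¹ * x ∈ Fi23Orbit.J := by
    rw [M.stab, map_mul, Equiv.Perm.mul_apply]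
    show M.rho y⁻¹ (M.rho x o) = o
    rw [← hy', ← Equiv.Perm.mul_apply, ← map_mul, inv_mul_cancel, map_one, Equiv.Perm.one_apply]
  have hc := M.central _ hj
  show y * Fi23Orbit.z.1 * y⁻¹ = _
  calc y * Fi23Orbit.z.1 * y⁻¹
      = y * (y⁻¹ * x * Fi23Orbit.z.1 * (y⁻¹ * x)⁻¹) * y⁻¹ := by rw [hc]
    _ = x * Fi23Orbit.z.1 * x⁻¹ := by group

theorem tau_rho (y : G) (p : Pt) : M.tau (M.rho y p) = y * M.tau p * y⁻¹ := by
  obtain ⟨x, rfl⟩ := M.trans p
  rw [← Equiv.Perm.mul_apply, ← map_mul, M.tau_rho_o, M.tau_rho_o]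
  group

theorem std_check : (Nat.beq (scan 10 Fi23x31671.table FischerExist.Fi23Conj.uWord 0) 8006 &&
    ([(6, 7), (5, 6), (4, 5), (3, 4), (2, 3), (1, 2), (0, 1), (8, 3), (9, 8)] : List (ℕ × ℕ)).all
      fun e => Nat.beq (ev [e.2, e.1] (stdPts.getD e.2 0)) (stdPts.getD e.1 0) &&
        decide ([e.2, e.1, e.2, e.1, e.2, e.1] ∈ Fi23x31671.letters.RL ∨
          [e.1, e.2, e.1, e.2, e.1, e.2] ∈ Fi23x31671.letters.RL)) = true := by
  decide +kernel

/-- A standard point. -/
def std (k : ℕ) (hk : k < 10) : Pt := ⟨stdPts.getD k 0, by interval_cases k <;> decide⟩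

theorem tau_seven : M.tau (std 7 (by omega)) = phi 7 := by
  set U : G := (FischerExist.Fi23Conj.uWord.map phi).prod with hU
  have hconj : Fi23Orbit.z.1 * U = U * phi 7 := by
    apply M.inj
    apply inv_injective
    apply Equiv.ext
    intro i
    apply Fin.ext
    have h := allBelow_iff.1 FischerExist.Fi23Conj.conj_ok i.1 i.2
    simp only [FischerExist.Fi23Conj.conjAt, force_eq, Nat.beq_eq] at h
    have e1 := rho_scan Fi23x31671.letters _ M.rho M.gen_eq (Fi23Orbit.zWord ++ FischerExist.Fi23Conj.uWord)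
      (by decide +kernel) i
    have e2 := rho_scan Fi23x31671.letters _ M.rho M.gen_eq (FischerExist.Fi23Conj.uWord ++ [7])
      (by decide +kernel) i
    rw [List.map_append, List.prod_append] at e1 e2
    simp only [List.map_cons, List.map_nil, List.prod_cons, List.prod_nil, mul_one] at e2
    exact (e1.trans h).trans e2.symm
  have hp : std 7 (by omega) = M.rho U⁻¹ o := by
    refine Fin.ext ?_
    have h := std_check
    rw [Bool.and_eq_true, Nat.beq_eq] at h
    rw [map_inv]
    exact ((rho_scan Fi23x31671.letters _ M.rho M.gen_eq FischerExist.Fi23Conj.uWord (by decide +kernel) o).trans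
      h.1).symm
  rw [hp, M.tau_rho_o, inv_inv, mul_assoc, hconj, inv_mul_cancel_left]

theorem tau_step {k m : ℕ} (hk : k < 10) (hm : m < 10)
    (he : (k, m) ∈ ([(6, 7), (5, 6), (4, 5), (3, 4), (2, 3), (1, 2), (0, 1), (8, 3), (9, 8)] : List (ℕ × ℕ)))
    (ih : M.tau (std m hm) = phi m) : M.tau (std k hk) = phi k := by
  have h := std_check
  rw [Bool.and_eq_true, List.all_eq_true] at h
  have h' := h.2 _ he
  simp only [Bool.and_eq_true, Nat.beq_eq, decide_eq_true_iff] at h'
  have hp : std k hk = M.rho (prodW [m, k]) (std m hm) := by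
    refine Fin.ext ?_
    rw [M.rho_prodW (lettersOK_iff.2 (by simp [hk, hm]))]
    exact h'.1.symm
  have e : prodW [m, k] = phi m * phi k := by simp [prodW]
  rw [hp, M.tau_rho, ih, e, mul_inv_rev, inv_eq_of_mul_eq_one_right (phi_sq hm),
    inv_eq_of_mul_eq_one_right (phi_sq hk)]
  have h6 : phi m * phi k * (phi m * phi k) * (phi m * phi k) = 1 := by
    rcases h'.2 with h'' | h''
    · have := Letters.prod_rel Fi23x31671.rels_mem Fi23x31671.letters_ok Fi23x31671.table_ok.col h''
      simpa [mul_assoc] using this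
    · have := Letters.prod_rel Fi23x31671.rels_mem Fi23x31671.letters_ok Fi23x31671.table_ok.col h''
      have h2 : phi k * phi m * (phi k * phi m) * (phi k * phi m) = 1 := by simpa [mul_assoc] using this
      calc phi m * phi k * (phi m * phi k) * (phi m * phi k)
          = (phi k)⁻¹ * (phi k * phi m * (phi k * phi m) * (phi k * phi m)) * phi k := by group
        _ = 1 := by rw [h2]; group
  calc phi m * phi k * phi m * (phi k * phi m)
      = phi m * phi k * (phi m * phi k) * (phi m * phi k) * (phi k)⁻¹ := by group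
    _ = phi k := by rw [h6, one_mul, inv_eq_of_mul_eq_one_right (phi_sq hk)]

theorem tau_std : ∀ k (hk : k < 10), M.tau (std k hk) = phi k := by
  have s7 := M.tau_seven
  have s6 := M.tau_step (k := 6) (by omega) (by omega) (by simp) s7
  have s5 := M.tau_step (k := 5) (by omega) (by omega) (by simp) s6
  have s4 := M.tau_step (k := 4) (by omega) (by omega) (by simp) s5
  have s3 := M.tau_step (k := 3) (by omega) (by omega) (by simp) s4
  have s2 := M.tau_step (k := 2) (by omega) (by omega) (by simp) s3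
  have s1 := M.tau_step (k := 1) (by omega) (by omega) (by simp) s2
  have s0 := M.tau_step (k := 0) (by omega) (by omega) (by simp) s1
  have s8 := M.tau_step (k := 8) (by omega) (by omega) (by simp) s3
  have s9 := M.tau_step (k := 9) (by omega) (by omega) (by simp) s8
  intro k hk
  interval_cases k
  exacts [s0, s1, s2, s3, s4, s5, s6, s7, s8, s9]

/-- The points whose transposition lies in a subgroup. -/
def pts (K : Subgroup G) : Set Pt := {p | M.tau p ∈ K}

theorem pts_closed {K : Subgroup G} {p : Pt} {y : G} (hy : y ∈ K) (hp : p ∈ M.pts K) :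
    M.rho y p ∈ M.pts K := by
  show M.tau _ ∈ K
  rw [M.tau_rho]
  exact K.mul_mem (K.mul_mem hy hp) (K.inv_mem hy)

theorem eq_top_of_std {K : Subgroup G} (h : ∀ k (hk : k < 10), std k hk ∈ M.pts K) : K = ⊤ := by
  rw [eq_top_iff, ← Letters.gen_closure (S := Fi23x31671.pres) Fi23x31671.table_ok.col,
    Subgroup.closure_le]
  rintro _ ⟨g, hg, rfl⟩
  have hg' : g < 10 := hg
  have := h g hg'
  rwa [pts, Set.mem_setOf_eq, M.tau_std] at this

theorem fixed_mem_centralizer {g : G} {p : Pt} (h : M.rho g p = p) :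
    p ∈ M.pts (Subgroup.centralizer ({g} : Set G)) := by
  show M.tau p ∈ Subgroup.centralizer ({g} : Set G)
  rw [Subgroup.mem_centralizer_singleton_iff]
  have e := M.tau_rho g p
  rw [h] at e
  calc M.tau p * g = g * M.tau p * g⁻¹ * g := by rw [← e]
    _ = g * M.tau p := by group

theorem center_eq_bot (M : Model) : Subgroup.center G = ⊥ := by
  rcases (inferInstance : (Subgroup.center G).Normal).eq_bot_or_eq_top with h | h
  · exact h
  · exfalso
    have h7 : M.rho (phi 7 * phi 6) = M.rho (phi 6 * phi 7) := by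
      rw [Subgroup.mem_center_iff.1 (h ▸ Subgroup.mem_top (phi 7)) (phi 6)]
    have key : ∀ i : Pt, ev [7, 6] i.1 = ev [6, 7] i.1 := fun i => by
      rw [← M.rho_prodW (l := [7, 6]) (by decide) i, ← M.rho_prodW (l := [6, 7]) (by decide) i]
      simp [prodW, h7]
    have hb : (Nat.beq (ev [7, 6] 0) (ev [6, 7] 0) && Nat.beq (ev [7, 6] 1) (ev [6, 7] 1) &&
        Nat.beq (ev [7, 6] 2) (ev [6, 7] 2) && Nat.beq (ev [7, 6] 52) (ev [6, 7] 52)) = false := by
      decide +kernel
    rw [key ⟨0, by omega⟩, key ⟨1, by omega⟩, key ⟨2, by omega⟩, key ⟨52, by omega⟩] at hb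
    simp at hb

theorem eq_one_of_centralizer (M : Model) {g : G} (h : Subgroup.centralizer ({g} : Set G) = ⊤) : g = 1 := by
  have hg : g ∈ Subgroup.center G := Subgroup.mem_center_iff.2 fun x =>
    Subgroup.mem_centralizer_singleton_iff.1 (h ▸ Subgroup.mem_top x)
  rwa [M.center_eq_bot, Subgroup.mem_bot] at hg

end Model

end Cfsg.Agent.Lib.Fi23Max
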