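import Cfsg.Agent.Lib.Fi23Max.Model
import Cfsg.Agent.Lib.Fi23Max.Data
import Cfsg.Agent.Lib.Computation.PermCode

/-!
The 324 points, their setwise stabiliser, its action on them, and the transpositions of the points.
-/

set_option autoImplicit false
set_option maxRecDepth 20000

namespace Cfsg.Agent.Lib.Fi23Max

open Cfsg.Agent.Lib.Computation (getW okPerm decodeP decodeP_apply mulP decodeP_mulP okPerm_mulP)
open Cfsg.Agent.Lib.CosetEnum (allBelow allBelow_iff)

/-- The indices of the points. -/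
abbrev Ix : Type := Fin 324

/-- The point with an index. -/
def ptN (i : ℕ) : ℕ := getW 16 Data.ptsC i

theorem ptN_check : (allBelow 324 fun i => Nat.blt (ptN i) 31671 &&
    (Nat.beq i 0 || Nat.blt (ptN (Nat.sub i 1)) (ptN i))) = true := by decide +kernel

theorem ptN_lt (i : Ix) : ptN i.1 < 31671 := by
  have h := allBelow_iff.1 ptN_check i.1 i.2
  simp only [Bool.and_eq_true, Nat.blt_eq] at h
  exact h.1

theorem ptN_mono : ∀ {i j : ℕ}, i < j → j < 324 → ptN i < ptN j := by
  intro i j hij hj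
  induction j with
  | zero => omega
  | succ j ih =>
    have h := allBelow_iff.1 ptN_check (j + 1) hj
    simp only [Bool.and_eq_true, Bool.or_eq_true, Nat.blt_eq, Nat.beq_eq] at h
    rcases h.2 with h' | h'
    · omega
    · have e : Nat.sub (j + 1) 1 = j := rfl
      rw [e] at h'
      rcases Nat.lt_succ_iff_lt_or_eq.1 hij with h'' | rfl
      · exact (ih h'' (by omega)).trans h'
      · exact h'

/-- A point. -/
def pt (i : Ix) : Pt := ⟨ptN i.1, ptN_lt i⟩

theorem pt_inj : Function.Injective pt := by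
  intro i j h
  have h' : ptN i.1 = ptN j.1 := congrArg Fin.val h
  rcases lt_trichotomy i.1 j.1 with h'' | h'' | h''
  · exact absurd h' (ptN_mono h'' j.2).ne
  · exact Fin.ext h''
  · exact absurd h' (ptN_mono h'' i.2).ne'

/-- The set of the points. -/
def Fs : Set Pt := Set.range pt

/-- The indices as points of the set. -/
noncomputable def eqv : Ix ≃ ↥Fs := Equiv.ofInjective pt pt_inj

/-- The word of the transposition reached by a path. -/
def trWord (path : List ℕ) (k : ℕ) : List ℕ := path ++ k :: path.reverse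

/-- The words of the five transpositions. -/
def eWord (j : ℕ) : List ℕ := trWord (Data.eData.getD j (0, [], 0)).2.1 (Data.eData.getD j (0, [], 0)).2.2

/-- The checks on a word and the code of its permutation of the points. -/
noncomputable def wordOK (w : List ℕ) (code : ℕ) : Bool :=
  lettersOK w && okPerm 324 9 code &&
    allBelow 324 fun c => Nat.beq (ev w (ptN c)) (ptN (getW 9 code c))

/-- The checks on a transposition given by a path. -/
noncomputable def trOK (p : ℕ) (path : List ℕ) (k : ℕ) : Bool :=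
  lettersOK path && Nat.blt k 10 && Nat.beq (ev path (stdPts.getD k 0)) p

theorem e_check : (allBelow 5 fun j =>
    Nat.blt (Data.eData.getD j (0, [], 0)).1 324 &&
    trOK (ptN (Data.eData.getD j (0, [], 0)).1) (Data.eData.getD j (0, [], 0)).2.1
      (Data.eData.getD j (0, [], 0)).2.2 &&
    wordOK (eWord j) (Data.eCodes.getD j 0)) = true := by decide +kernel

theorem h_check : (allBelow 2 fun j => wordOK (Data.hWords.getD j []) (Data.hCodes.getD j 0) &&
    okPerm 324 9 (Data.hInvCodes.getD j 0) &&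
    allBelow 324 fun c => Nat.beq (getW 9 (Data.hInvCodes.getD j 0) (getW 9 (Data.hCodes.getD j 0) c)) c) =
    true := by
  decide +kernel

/-- The permutation of a transposition of a point. -/
def ttCode (d : ℕ) : ℕ :=
  bif Nat.blt d 81 then Data.ttChunk0.getD d 0 else bif Nat.blt d 162 then Data.ttChunk1.getD (d - 81) 0
  else bif Nat.blt d 243 then Data.ttChunk2.getD (d - 162) 0 else Data.ttChunk3.getD (d - 243) 0

/-- The fixed set of the transposition of a point, as a bit mask. -/
def fixMask (d : ℕ) : ℕ :=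
  bif Nat.blt d 81 then Data.fixChunk0.getD d 0 else bif Nat.blt d 162 then Data.fixChunk1.getD (d - 81) 0
  else bif Nat.blt d 243 then Data.fixChunk2.getD (d - 162) 0 else Data.fixChunk3.getD (d - 243) 0

/-- A bit of a mask. -/
def bit (N c : ℕ) : Bool := Nat.beq (Nat.mod (Nat.shiftRight N c) 2) 1

theorem tt_ok : (allBelow 324 fun d => okPerm 324 9 (ttCode d)) = true := by decide +kernel

theorem mask_check : (allBelow 324 fun d => allBelow 324 fun c =>
    bit (fixMask d) c == Nat.beq (getW 9 (ttCode d) c) c) = true := by decide +kernel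

theorem tree_check : (allBelow 324 fun n =>
    Nat.blt (Data.fTree.getD n (0, 0, 0)).1 324 &&
      bif Nat.beq n 0 then
        Nat.beq (Data.fTree.getD n (0, 0, 0)).1 (Data.eData.getD 0 (0, [], 0)).1 &&
          Nat.beq (ttCode (Data.fTree.getD n (0, 0, 0)).1) (Data.eCodes.getD 0 0)
      else
        Nat.blt (Data.fTree.getD n (0, 0, 0)).2.1 n && Nat.blt (Data.fTree.getD n (0, 0, 0)).2.2 5 &&
          Nat.beq (Data.fTree.getD n (0, 0, 0)).1
            (getW 9 (Data.eCodes.getD (Data.fTree.getD n (0, 0, 0)).2.2 0)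
              (Data.fTree.getD (Data.fTree.getD n (0, 0, 0)).2.1 (0, 0, 0)).1) &&
          Nat.beq (mulP 324 9 (ttCode (Data.fTree.getD n (0, 0, 0)).1)
              (Data.eCodes.getD (Data.fTree.getD n (0, 0, 0)).2.2 0))
            (mulP 324 9 (Data.eCodes.getD (Data.fTree.getD n (0, 0, 0)).2.2 0)
              (ttCode (Data.fTree.getD (Data.fTree.getD n (0, 0, 0)).2.1 (0, 0, 0)).1))) = true := by
  decide +kernel

theorem tree_cover : (allBelow 324 fun d =>
    ((List.range 324).any fun n => Nat.beq (Data.fTree.getD n (0, 0, 0)).1 d)) = true := by decide +kernel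

namespace Model

variable (M : Model)

/-- The stabiliser of the set of the points. -/
def hset : Subgroup G where
  carrier := {x | ∀ p, p ∈ Fs ↔ M.rho x p ∈ Fs}
  one_mem' := fun p => by simp
  mul_mem' := fun {a b} ha hb p => by
    rw [map_mul, Equiv.Perm.mul_apply]
    exact (hb p).trans (ha _)
  inv_mem' := fun {a} ha p => by
    have h := ha (M.rho a⁻¹ p)
    rw [← Equiv.Perm.mul_apply, ← map_mul, mul_inv_cancel, map_one, Equiv.Perm.one_apply] at h
    exact h.symm

/-- The action on the indices. -/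
noncomputable def psi : M.hset →* Equiv.Perm Ix where
  toFun x := eqv.trans (((M.rho x.1).subtypePerm fun p => (x.2 p).symm).trans eqv.symm)
  map_one' := by
    ext c
    simp
  map_mul' x y := by
    refine Equiv.ext fun c => ?_
    simp only [Equiv.Perm.mul_apply, Equiv.trans_apply, Equiv.apply_symm_apply]
    refine congrArg eqv.symm (Subtype.ext ?_)
    simp

theorem pt_psi (x : M.hset) (c : Ix) : pt (M.psi x c) = M.rho x.1 (pt c) := by
  have h : (eqv (M.psi x c) : Pt) = M.rho x.1 (pt c) := by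
    show (eqv (eqv.symm _) : Pt) = _
    rw [Equiv.apply_symm_apply]
    rfl
  exact h

theorem mem_of_code {x : G} {σ : Equiv.Perm Ix} (h : ∀ c, M.rho x (pt c) = pt (σ c)) :
    ∃ hx : x ∈ M.hset, M.psi ⟨x, hx⟩ = σ := by
  have hx : x ∈ M.hset := fun p => by
    constructor
    · rintro ⟨c, rfl⟩
      exact ⟨σ c, (h c).symm⟩
    · rintro ⟨c, hc⟩
      refine ⟨σ.symm c, (M.rho x).injective ?_⟩
      rw [h, Equiv.apply_symm_apply, hc]
  exact ⟨hx, Equiv.ext fun c => pt_inj (by rw [M.pt_psi, h])⟩

theorem mem_of_word {w : List ℕ} {code : ℕ} (h : wordOK w code = true) :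
    ∃ hx : prodW w ∈ M.hset, M.psi ⟨prodW w, hx⟩ = decodeP 324 9 code := by
  simp only [wordOK, Bool.and_eq_true] at h
  refine M.mem_of_code fun c => Fin.ext ?_
  rw [M.rho_prodW h.1.1]
  have h' := allBelow_iff.1 h.2 c.1 c.2
  rw [Nat.beq_eq] at h'
  show ev w (ptN c.1) = ptN (decodeP 324 9 code c).1
  rw [decodeP_apply h.1.2, h']

theorem tau_trOK {p : Pt} {path : List ℕ} {k : ℕ} (h : trOK p.1 path k = true) :
    M.tau p = prodW (trWord path k) := by
  simp only [trOK, Bool.and_eq_true, Nat.blt_eq, Nat.beq_eq] at h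
  obtain ⟨⟨hl, hk⟩, he⟩ := h
  have hp : p = M.rho (prodW path) (std k hk) := by
    refine Fin.ext ?_
    rw [M.rho_prodW hl]
    exact he.symm
  rw [hp, M.tau_rho, M.tau_std k hk, trWord, prodW_append, prodW_cons,
    prodW_reverse (lettersOK_iff.1 hl), mul_assoc]

theorem eWord_spec {j : ℕ} (hj : j < 5) :
    ∃ (hd : (Data.eData.getD j (0, [], 0)).1 < 324) (hx : prodW (eWord j) ∈ M.hset),
      M.tau (pt ⟨_, hd⟩) = prodW (eWord j) ∧
      M.psi ⟨prodW (eWord j), hx⟩ = decodeP 324 9 (Data.eCodes.getD j 0) ∧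
      okPerm 324 9 (Data.eCodes.getD j 0) = true := by
  have h := allBelow_iff.1 e_check j hj
  simp only [Bool.and_eq_true, Nat.blt_eq] at h
  obtain ⟨hx, hp⟩ := M.mem_of_word h.2
  have hok := h.2
  simp only [wordOK, Bool.and_eq_true] at hok
  exact ⟨h.1.1, hx, M.tau_trOK h.1.2, hp, hok.1.2⟩

theorem eTau_mem {j : ℕ} (hj : j < 5) : prodW (eWord j) ∈ M.hset := (M.eWord_spec hj).2.choose

/-- The statement about the transposition of a point. -/
def TT (d : Ix) : Prop :=
  ∃ hx : M.tau (pt d) ∈ M.hset, M.psi ⟨_, hx⟩ = decodeP 324 9 (ttCode d.1)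

theorem tt_spec : ∀ d : Ix, M.TT d := by
  have key : ∀ n, ∀ (hn : n < 324) (hd : (Data.fTree.getD n (0, 0, 0)).1 < 324), M.TT ⟨_, hd⟩ := by
    intro n
    induction n using Nat.strong_induction_on with
    | _ n ih =>
      intro hn hd
      have h := allBelow_iff.1 tree_check n hn
      simp only [Bool.and_eq_true, Nat.blt_eq] at h
      rcases Nat.eq_zero_or_pos n with rfl | hpos
      · have h2 := h.2
        simp only [Nat.beq_refl, cond_true, Bool.and_eq_true, Nat.beq_eq] at h2
        obtain ⟨he, hx, ht, hp, -⟩ := M.eWord_spec (j := 0) (by omega)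
        have e : (⟨_, hd⟩ : Ix) = ⟨_, he⟩ := Fin.ext h2.1
        rw [e]
        refine ⟨ht ▸ hx, ?_⟩
        have e2 : (⟨M.tau (pt ⟨_, he⟩), ht ▸ hx⟩ : M.hset) = ⟨prodW (eWord 0), hx⟩ := Subtype.ext ht
        rw [e2, hp]
        refine congrArg _ ?_
        show _ = ttCode (Data.eData.getD 0 (0, [], 0)).1
        rw [← h2.2, h2.1]
      · have hb : Nat.beq n 0 = false := Bool.eq_false_iff.2 fun e => by
          rw [Nat.beq_eq] at e; omega
        have h2 := h.2
        rw [hb] at h2
        simp only [cond_false, Bool.and_eq_true, Nat.blt_eq, Nat.beq_eq] at h2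
        obtain ⟨⟨⟨hp, hk⟩, hc⟩, hm⟩ := h2
        have hpl := allBelow_iff.1 tree_check _ (hp.trans hn)
        simp only [Bool.and_eq_true, Nat.blt_eq] at hpl
        obtain ⟨hxp, hpp⟩ := ih _ hp (hp.trans hn) hpl.1
        generalize hj : (Data.fTree.getD n (0, 0, 0)).2.2 = j at hk hc hm
        obtain ⟨he, hx, -, hpe, hok⟩ := M.eWord_spec hk
        set d' : Ix := ⟨_, hpl.1⟩ with hd'
        have e : pt ⟨_, hd⟩ = M.rho (prodW (eWord j)) (pt d') := by
          rw [← M.pt_psi ⟨_, hx⟩ d', hpe]
          refine congrArg pt (Fin.ext ?_)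
          rw [decodeP_apply hok]
          exact hc
        have et : M.tau (pt ⟨_, hd⟩) =
            prodW (eWord j) * M.tau (pt d') * (prodW (eWord j))⁻¹ := by rw [e, M.tau_rho]
        have hx' : M.tau (pt ⟨_, hd⟩) ∈ M.hset := et ▸ M.hset.mul_mem (M.hset.mul_mem hx hxp) (M.hset.inv_mem hx)
        refine ⟨hx', ?_⟩
        have e2 : (⟨_, hx'⟩ : M.hset) = ⟨_, hx⟩ * ⟨_, hxp⟩ * ⟨_, hx⟩⁻¹ := Subtype.ext et
        rw [e2, map_mul, map_mul, map_inv, hpe, hpp, mul_inv_eq_iff_eq_mul]
        have o1 := allBelow_iff.1 tt_ok _ hd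
        have o2 := allBelow_iff.1 tt_ok _ d'.2
        rw [← decodeP_mulP hok o2, ← decodeP_mulP o1 hok]
        exact congrArg _ hm.symm
  intro d
  obtain ⟨n, hn, he⟩ := List.any_eq_true.1 (allBelow_iff.1 tree_cover d.1 d.2)
  rw [Nat.beq_eq] at he
  have h := key n (List.mem_range.1 hn) (by rw [he]; exact d.2)
  have e : (⟨(Data.fTree.getD n (0, 0, 0)).1, by rw [he]; exact d.2⟩ : Ix) = d := Fin.ext he
  rwa [e] at h

theorem tau_pt_mem (d : Ix) : M.tau (pt d) ∈ M.hset := (M.tt_spec d).choose

/-- The transposition of a point on the indices. -/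
noncomputable def tt (d : Ix) : Equiv.Perm Ix := decodeP 324 9 (ttCode d.1)

theorem psi_tau (d : Ix) : M.psi ⟨_, M.tau_pt_mem d⟩ = tt d := (M.tt_spec d).choose_spec

theorem psi_tt (y : M.hset) (d : Ix) : M.psi y * tt d = tt (M.psi y d) * M.psi y := by
  rw [← M.psi_tau d, ← M.psi_tau (M.psi y d), ← map_mul, ← map_mul]
  refine congrArg _ (Subtype.ext ?_)
  show y.1 * M.tau (pt d) = M.tau (pt (M.psi y d)) * y.1
  rw [M.pt_psi, M.tau_rho, inv_mul_cancel_right]

theorem pt_fixed (y : M.hset) {c : Ix} (h : M.psi y c = c) : M.rho y.1 (pt c) = pt c := by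
  rw [← M.pt_psi, h]

end Model

theorem bit_fixMask (d c : Ix) : bit (fixMask d.1) c.1 = true ↔ Model.tt d c = c := by
  have h := allBelow_iff.1 (allBelow_iff.1 mask_check d.1 d.2) c.1 c.2
  rw [beq_iff_eq] at h
  rw [h, Nat.beq_eq, Fin.ext_iff, Model.tt, decodeP_apply (allBelow_iff.1 tt_ok _ d.2)]

end Cfsg.Agent.Lib.Fi23Max
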